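import Mathlib
import Cfsg.Agent.Spor.ESBasic
import Cfsg.Agent.Spor.J4.NMod

/-!
Groups of Conway type: the normal form of the hypothesis, coordinates for the extraspecial group `Q` of order
`2 ^ 9`, codes for the automorphisms of `Q`, and the stages of the identification.
-/

set_option autoImplicit false

namespace Cfsg.Agent.C1T

open Cfsg.Agent.Spor Cfsg.Agent.Spor.MB Cfsg.Agent.Spor.J4C Subgroup
open scoped Pointwise

/-! ### Arithmetic on codes -/

/-- Parity of a number below 16. -/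
def par (n : ℕ) : ℕ := Nat.land (Nat.shiftRight (nat_lit 0x6996) n) 1

/-- Product in `Q`: bits 0-3 and 4-7 are exponents of the generators, bit 8 is the exponent of `z`. -/
def qmul (a b : ℕ) : ℕ :=
  Nat.xor (Nat.xor a b) (Nat.shiftLeft (par (Nat.land (Nat.land (Nat.shiftRight a 4) b) 15)) 8)

/-- Inverse in `Q`. -/
def qinv (a : ℕ) : ℕ := Nat.xor a (Nat.shiftLeft (par (Nat.land (Nat.land (Nat.shiftRight a 4) a) 15)) 8)

/-- The image of generator `k` under the automorphism with code `c`. -/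
def img (c k : ℕ) : ℕ := Nat.land (Nat.shiftRight c (Nat.mul 9 k)) 511

/-- One step of `app` (`k' = 9 * k`). -/
noncomputable def appS (c x k k' r : ℕ) : ℕ :=
  Nat.rec r (fun _ _ => Spor.force r fun r => Spor.force (Nat.land (Nat.shiftRight c k') (nat_lit 511)) fun y =>
    Nat.xor (Nat.xor r y) (Nat.shiftLeft (Nat.land (Nat.shiftRight (nat_lit 0x6996)
      (Nat.land (Nat.land (Nat.shiftRight r (nat_lit 4)) y) (nat_lit 15))) (nat_lit 1)) (nat_lit 8)))
    (Nat.land (Nat.shiftRight x k) (nat_lit 1))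

/-- The image of the element with code `x` under the automorphism with code `c`. -/
noncomputable def app (c x : ℕ) : ℕ :=
  Spor.force c fun c => Spor.force x fun x =>
    appS c x (nat_lit 7) (nat_lit 63)
    (appS c x (nat_lit 6) (nat_lit 54)
    (appS c x (nat_lit 5) (nat_lit 45)
    (appS c x (nat_lit 4) (nat_lit 36)
    (appS c x (nat_lit 3) (nat_lit 27)
    (appS c x (nat_lit 2) (nat_lit 18)
    (appS c x (nat_lit 1) (nat_lit 9)
    (appS c x (nat_lit 0) (nat_lit 0)
    (Nat.land x (nat_lit 256)))))))))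

/-- Eight fields of 9 bits. -/
def pk8 (f : ℕ → ℕ) : ℕ :=
  Nat.lor (f 0) (Nat.shiftLeft (Nat.lor (f 1) (Nat.shiftLeft (Nat.lor (f 2) (Nat.shiftLeft (Nat.lor (f 3)
    (Nat.shiftLeft (Nat.lor (f 4) (Nat.shiftLeft (Nat.lor (f 5) (Nat.shiftLeft (Nat.lor (f 6) (Nat.shiftLeft
    (f 7) 9)) 9)) 9)) 9)) 9)) 9)) 9)

/-- Product of automorphisms (`b` acts first). -/
noncomputable def amul (a b : ℕ) : ℕ :=
  Spor.force a fun a => Spor.force b fun b => pk8 fun k => app a (img b k)

/-- The identity. -/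
def aid : ℕ := nat_lit 0x401004010040100401

/-- Conjugation by the element of `Q` with code `x`. -/
noncomputable def inn (x : ℕ) : ℕ :=
  Spor.force x fun x => pk8 fun k => Spor.force (qmul x (Nat.shiftLeft 1 k)) fun y => qmul y (qinv x)

/-- The code of a word. -/
noncomputable def aev (c : ℕ → ℕ) (w : List ℕ) : ℕ := List.rec aid (fun x _ ih => amul (c x) ih) w

/-- The images of the generators satisfy the relations of `Q`. -/
noncomputable def okA (c : ℕ) : Bool :=
  Spor.force c fun c => band (blt c (nat_lit 0x1000000000000000000)) <| allLt 8 fun i => Spor.force (img c i) fun x =>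
    band (Nat.beq (qmul x x) 0) <| allLt i fun j => Spor.force (img c j) fun y =>
      Nat.beq (Nat.xor (qmul x y) (qmul y x)) (Bool.rec 0 256 (Nat.beq i (Nat.add j 4)))

/-- The code in `Q` of the element of `V ⊓ Q` with `V`-code `x` (bits 0-3 and bit 10 of `x`). -/
def vq (x : ℕ) : ℕ := Nat.lor (Nat.land x 15) (Nat.shiftRight (Nat.land x 1024) 2)

/-! ### Data -/

/-- Codes of the letters `b`, `d`, `a`, `u1`, `u2`, `u3`, `u'`. -/
def cL (i : ℕ) : ℕ := List.getD [nat_lit 0x403004010860120401, nat_lit 0x60201c010834300401,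
  nat_lit 0x500818010060380801, nat_lit 0x425224010040100401, nat_lit 0xc15005010040100401,
  nat_lit 0xc010a4810040100401, nat_lit 0x401024010a46100401] i aid

/-- Codes of the conjugates of the generators `1, 2, 3, 5, 6, 7` of `Q` by the element of order three. -/
def cR (j : ℕ) : ℕ := List.getD [aid, nat_lit 0x401024212040100401, nat_lit 0x405044014040100401,
  nat_lit 0xc09004018040100401, aid, nat_lit 0x401004030040120601, nat_lit 0x401004050044140401,
  nat_lit 0x401004090848100401] j aid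

/-- The code of the element of order three that moves the trio. -/
def cY : ℕ := nat_lit 0x203016060074240303

/-- Elements of `M24`: the images of `ρ`, `g 4 .. g 7`, `b`, `d`, `a` and of the element that moves the trio. -/
def nP (i : ℕ) : ℕ := List.getD [nat_lit 0x6a151484eb2cd9700dc2a3cd2ad890, nat_lit 0xba1474922b3398d85676a3cb218820,
  nat_lit 0xb99b28523343aaa4b16f258a718820, nat_lit 0xbc0ea332364b892451ebaccad18820,
  nat_lit 0xbb4c93ae2453ac893e8c9d4b018820, nat_lit 0x2d6d285033600cf4a16a236e710e2e,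
  nat_lit 0xd8ca9ac6da389263d28a9e3028817, nat_lit 0xb9a09229d6a05ac42e4f99e3501462,
  nat_lit 0xba0f09d0722396f536c93562c28820] i idc

/-- The code words that correspond to the generators of `V`. -/
def bm (k : ℕ) : ℕ :=
  getP 24 16777215 (nat_lit 0x7dbfd0694f0d5e43962cc67a00cb25164a0312c628498b401d0a903886c06920d0) k

/-- The code word with `V`-code `x`. -/
def rep (x : ℕ) : ℕ := xorN (fun i => Nat.mul (Nat.land (Nat.shiftRight x i) 1) (bm i)) 11

/-- The `V`-code of the basis word `bas i`. -/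
def lamP (i : ℕ) : ℕ := getP 11 2047 (nat_lit 0xb5efcd2800dcb7fea659a0af09b365115) i

/-- The `V`-code of a code word. -/
def lam (m : ℕ) : ℕ := xorN (fun i => Nat.mul (Nat.land (Nat.shiftRight m i) 1) (lamP i)) 12

/-- The action of an element of `M24` on `V`-codes. -/
noncomputable def va (c x : ℕ) : ℕ :=
  Spor.force c fun c => Spor.force x fun x => Spor.force (rep x) fun m => Spor.force (act c m) lam

/-- The action on `Q` of the generators of `V`. -/
noncomputable def cB (k : ℕ) : ℕ :=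
  if k < 4 then inn (2 ^ k) else if k < 7 then cR (k - 3) else if k < 10 then cL (k - 4) else aid

/-- The code word part of the conjugate by `t` of the generator `k ≠ 7` of `V`. -/
def thC (k : ℕ) : ℕ := List.getD [6889680, 3704512, 6337856, 3421328, 1230376, 8350419, 6941685, 0, 6177686,
  6901517, 8241104] k 0

/-- The permutation part of the conjugate by `t` of the generator `k ≠ 7` of `V`. -/
def thP (k : ℕ) : ℕ := List.getD [idc, idc, nat_lit 0xbb4c93ae2453ac893e8c9d4b018820,
  nat_lit 0xbc0ea332364b892451ebaccad18820, idc, nat_lit 0x15aa99add0545a893e8c398642dc01,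
  nat_lit 0xdaaa9b070495b2451eb399c4882e2, idc, nat_lit 0x10c93a1cd5460b63e929d47628457,
  nat_lit 0xc26fab0b6a0c924254b31e2d702e2] k idc

/-- The product `b a a`. -/
def pR : ℕ := nat_lit 0x292b4b262d588cf629123c013185d7

/-! ### Coordinates -/

variable {G : Type*} [Group G]

/-- The ordered product of the `g k`, `k < n`, selected by the bits of `x`. -/
def gp (g : ℕ → G) (x : ℕ) : ℕ → G
  | 0 => 1
  | n + 1 => gp g x n * (if x.testBit n then g n else 1)

/-- The element of `Q` with code `x`. -/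
def qv (z : G) (g : ℕ → G) (x : ℕ) : G := (if x.testBit 8 then z else 1) * gp g x 8

/-- The extraspecial group. -/
def QG (g : ℕ → G) : Subgroup G := genLt g 8

/-- The generators of `V`. -/
def vg (z : G) (g : ℕ → G) (ρ : G) (l : ℕ → G) (k : ℕ) : G :=
  if k < 4 then g k else if k < 7 then ρ * g (k - 3) * ρ⁻¹ else if k < 10 then l (k - 4) else z

/-- The element of `V` with code `x`: bits 0-3 for `g 0 .. g 3`, bits 4-6 for the conjugates of `g 1 .. g 3` by `ρ`,
bits 7-9 for `l 3 .. l 5`, bit 10 for `z`. -/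
def vv (z : G) (g : ℕ → G) (ρ : G) (l : ℕ → G) (x : ℕ) : G := gp (vg z g ρ l) x 11

/-- The image of the code. -/
def ZG (z : G) (g : ℕ → G) (ρ : G) (l : ℕ → G) (s : Finset GolayPt) : G := vv z g ρ l (lam (mask s))

/-- The letters that normalise `V`: `ρ`, `g 4 .. g 7`, `b`, `d`, `a`. -/
def nl (g : ℕ → G) (ρ : G) (l : ℕ → G) (i : ℕ) : G := if i = 0 then ρ else if i < 5 then g (i + 3) else l (i - 5)

/-- `h` commutes with `z` and acts on `Q` as the automorphism with code `c`. -/
def Rp (z : G) (g : ℕ → G) (h : G) (c : ℕ) : Prop :=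
  h * z = z * h ∧ c < 2 ^ 72 ∧ ∀ k < 8, h * g k * h⁻¹ = qv z g (img c k)

/-- The relations of the extraspecial group. -/
structure StQ (z : G) (g : ℕ → G) : Prop where
  z_ne : z ≠ 1
  z_sq : z * z = 1
  z_comm : ∀ k < 8, z * g k = g k * z
  sq : ∀ k < 8, g k * g k = 1
  comm : ∀ i < 8, ∀ j < i, i ≠ j + 4 → g i * g j = g j * g i
  anti : ∀ j < 4, g (j + 4) * g j = z * (g j * g (j + 4))

/-- The centraliser of `z` in normal form. -/
structure St0 (z : G) (g : ℕ → G) : Prop where
  q : StQ z g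
  nQ : ∀ h, h * z = z * h → ∀ q ∈ QG g, h * q * h⁻¹ ∈ QG g
  cQ : ∀ h, h * z = z * h → (∀ q ∈ QG g, h * q = q * h) → h ∈ QG g
  sq : ∀ φ : MulAut (QG g), ∃ h, h * z = z * h ∧ ∀ q : QG g, h * q * h⁻¹ = φ (φ q)
  card : Nat.card (centralizer ({z} : Set G)) = 89181388800

/-- The element `ρ` of order three permutes the involutions of `⟨z, g 0⟩` and is inverted by `g 4`; the group `K` of
the elements commuting with `ρ` and `z` is a complement to the radical in the centraliser of `⟨z, g 0⟩`. -/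
structure StP (z : G) (g : ℕ → G) (ρ : G) : Prop where
  st : St0 z g
  r3 : ρ * (ρ * ρ) = 1
  rz : ρ * z * ρ⁻¹ = g 0
  rs : ρ * g 0 * ρ⁻¹ = z * g 0
  rf : g 4 * ρ * g 4 = ρ⁻¹
  can : ∀ q ∈ QG g, q * g 0 = g 0 * q → q * (ρ * q * ρ⁻¹) * (ρ⁻¹ * q * ρ) = 1
  cm : ∀ q ∈ QG g, q * g 0 = g 0 * q → ∀ r ∈ QG g, r * g 0 = g 0 * r →
    ρ * q * ρ⁻¹ * r * (ρ * q * ρ⁻¹)⁻¹ * r⁻¹ ∈ closure ({z, g 0} : Set G)
  kf : ∀ k, k * ρ = ρ * k → k * z = z * k → k * g 4 = g 4 * k
  faith : ∀ k, k * ρ = ρ * k → k * z = z * k →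
    (∀ q ∈ QG g, q * g 0 = g 0 * q → k * q * k⁻¹ * q⁻¹ ∈ closure ({z, g 0} : Set G)) → k = 1
  dec : ∀ h, h * z = z * h → h * g 0 = g 0 * h → ∃ k, k * ρ = ρ * k ∧ k * z = z * k ∧
    ∀ q ∈ QG g, q * g 0 = g 0 * q → k * q * k⁻¹ * (h * q * h⁻¹)⁻¹ ∈ closure ({z, g 0} : Set G)

/-- Letters: generators of `K` acting in the standard way. -/
structure StL (z : G) (g : ℕ → G) (ρ : G) (l : ℕ → G) : Prop where
  p : StP z g ρ
  rp : ∀ i < 7, Rp z g (l i) (cL i)
  cm : ∀ i < 7, l i * ρ = ρ * l i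

/-- The elementary abelian group `V` of order `2 ^ 11` and the action of the letters on it. -/
structure StV (z : G) (g : ℕ → G) (ρ : G) (l : ℕ → G) : Prop where
  l' : StL z g ρ l
  xor : ∀ a b, vv z g ρ l (a ^^^ b) = vv z g ρ l a * vv z g ρ l b
  rpv : ∀ k < 11, Rp z g (vg z g ρ l k) (cB k)
  inj : ∀ a < 2048, vv z g ρ l a = 1 → a = 0
  cent : ∀ h, h * z = z * h → (∀ k < 4, h * g k = g k * h) → ∃ x < 2048, h = vv z g ρ l x
  act : ∀ i < 8, ∀ x < 2048, nl g ρ l i * vv z g ρ l x * (nl g ρ l i)⁻¹ = vv z g ρ l (va (nP i) x)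
  ex : ∃ y : G, ∀ x < 2048, y * vv z g ρ l x * y⁻¹ = vv z g ρ l (va (nP 8) x)

/-- An image of the Golay code modulo the all-one word, acted on by an image of `M24`. -/
structure ZS (ψ : M24 →* G) (Z : Finset GolayPt → G) : Prop where
  mul : ∀ c ∈ CW, ∀ d ∈ CW, Z (symmDiff c d) = Z c * Z d
  univ : Z Finset.univ = 1
  conj : ∀ m : M24, ∀ c ∈ CW, ψ m * Z c * (ψ m)⁻¹ = Z ((m : PG) • c)

/-- The split extension of `V` by `M24`, compatibly with the letters. -/
structure StM (z : G) (g : ℕ → G) (ρ : G) (l : ℕ → G) (ψ : M24 →* G) : Prop where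
  v : StV z g ρ l
  zs : ZS ψ (ZG z g ρ l)
  nl : ∀ i < 8, valN ψ (nP i) = nl g ρ l i

/-- The relations of the first Conway group over `2 ^ 11 : M24`; `8388615` is the tetrad of Conway's element. -/
structure Setup (ψ : M24 →* G) (Z : Finset GolayPt → G) (t : G) : Prop where
  zs : ZS ψ Z
  tt : t * t = 1
  tv : ∀ k < 11, k ≠ 7 → Z (unmask (bm k)) * t = t * (Z (unmask (thC k)) * valN ψ (thP k))
  tm : ∀ i < 9, i ≠ 7 → valN ψ (nP i) * t = t * (Z (unmask (8388615 ^^^ act (nP i) 8388615)) * valN ψ (nP i))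
  r1 : (t * Z (unmask 6946666)) ^ 3 = 1
  r2 : (t * (Z (unmask 4536592) * valN ψ pR)) ^ 3 = 1

end Cfsg.Agent.C1T
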