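import Mathlib
import Cfsg.Agent.C1T.Model
import Cfsg.Agent.Spor.CZ.Inv
import Cfsg.Agent.Spor.CZ.Neg

/-!
Involutions of the first Conway group.
-/

set_option autoImplicit false
set_option maxRecDepth 100000
set_option exponentiation.threshold 100000

namespace Cfsg.Agent.C1T

open Cfsg.Spor Cfsg.Agent.Spor Cfsg.Agent.Spor.MB Cfsg.Agent.Spor.J4C Subgroup
open Cfsg.Agent.Spor.MX (co1Pi)
open Cfsg.Agent.Spor.Leech (Λ Vec nm ip e8 v44 negOne IsCode)
open scoped Pointwise Cfsg.Agent.Spor.Leech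

variable {G : Type*} [Group G]

theorem Fa.card_cent_conj {a b : G} (h : IsConj a b) :
    Nat.card (centralizer ({b} : Set G)) = Nat.card (centralizer ({a} : Set G)) := by
  obtain ⟨g, rfl⟩ := isConj_iff.1 h
  refine (Nat.card_congr (Equiv.subtypeEquiv (MulAut.conj g).toEquiv fun x => ?_)).symm
  simp [mem_centralizer_singleton_iff, ← mul_assoc]
  simp [mul_assoc]

theorem Fa.dvd_card_cent {a x : G} {p : ℕ} (hp : p.Prime) (h : x * a = a * x) (h1 : x ^ p = 1) (h2 : x ≠ 1) :
    p ∣ Nat.card (centralizer ({a} : Set G)) := by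
  have := Fact.mk hp
  rw [← orderOf_eq_prime h1 h2]
  exact orderOf_dvd_natCard _ (mem_centralizer_singleton_iff.2 h)

theorem isConj_octad {c : Finset GolayPt} (hc : c ∈ octads) : IsConj (sg O0) (sg c) := by
  obtain ⟨g, hg, rfl⟩ := exists_smul_O0 hc
  exact isConj_iff.2 ⟨_, zs_model.conj ⟨g, hg⟩ O0 (mem_octads.1 O0_mem).1⟩

theorem isConj_dodecad {c : Finset GolayPt} (hc : c ∈ dodecads) : IsConj (sg D0) (sg c) := by
  obtain ⟨g, hg, rfl⟩ := exists_smul_D0 hc
  exact isConj_iff.2 ⟨_, zs_model.conj ⟨g, hg⟩ D0 (mem_dodecads.1 D0_mem).1⟩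

theorem Fa.isConj_tO : IsConj (sg O0) (co1Pi CZ.tO) := by
  have hO : CZ.O ∈ octads := ⟨CZ.isCode_O, by decide +kernel⟩
  have h := isConj_octad hO
  rwa [← zs_model.compl CZ.isCode_O, sg_eq CZ.isCode_O.compl] at h

theorem card_cent_O0 : Nat.card (centralizer ({sg O0} : Set Co1)) = 89181388800 :=
  (Fa.card_cent_conj Fa.isConj_tO).symm.trans CZ.model.2.2.2.2

theorem Fa.dvd_card_cent_sg {c : Finset GolayPt} (hc : c ∈ CW) {m : PG} (hm : m ∈ M24) {p : ℕ} (hp : p.Prime)
    (h1 : orderOf m = p) (h2 : m • c = c) : p ∣ Nat.card (centralizer ({sg c} : Set Co1)) := by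
  refine Fa.dvd_card_cent (x := pm ⟨m, hm⟩) hp
    (mul_inv_eq_iff_eq_mul.1 ((zs_model.conj ⟨m, hm⟩ c hc).trans (congrArg sg h2)))
    (by rw [← map_pow, show (⟨m, hm⟩ : M24) ^ p = 1 from Subtype.ext (h1 ▸ pow_orderOf_eq_one m), map_one])
    fun h => ?_
  rcases CZ.co1_eq_one.1 h with e | e
  · rw [show m = 1 from congrArg Subtype.val (Leech.perm_injective (e.trans (map_one _).symm)), orderOf_one] at h1
    exact hp.ne_one h1.symm
  · have h3 := (Leech.sign_mul_perm_inj (c := ∅) (hc := Leech.isCode_empty) (d := Finset.univ)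
      (hd := Leech.isCode_univ) (σ := ⟨m, hm⟩) (τ := 1)
      (by rw [Leech.sign_empty, one_mul, map_one, mul_one]; exact e)).1
    exact Finset.notMem_empty none (h3 ▸ Finset.mem_univ _)

theorem dvd_card_cent_D0 : 11 ∣ Nat.card (centralizer ({sg D0} : Set Co1)) :=
  Fa.dvd_card_cent_sg (mem_dodecads.1 D0_mem).1 x11_mem (by norm_num) orderOf_x11
    ((smul_unmask_eq_iff (by norm_num)).2 (by rw [code_x11]; decide +kernel))

theorem Fa.cases_of_sq {g : Co0} (h : g * g = 1) (h1 : co1Pi g ≠ 1) :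
    IsConj (sg O0) (co1Pi g) ∨ IsConj (sg D0) (co1Pi g) := by
  obtain ⟨k, c, hc, e⟩ := Std.exists_conj_mem_Sgn h
  have h2 : IsConj (sg c) (co1Pi g) :=
    (isConj_iff.2 ⟨co1Pi k, by rw [sg_eq hc, ← e, map_mul, map_mul, map_inv]⟩).symm
  have h3 : sg c ≠ 1 := fun e => h1 (isConj_one_right.1 (e ▸ h2))
  rcases hc.card_cases with h | h | h | h | h
  · exact absurd ((sg_eq_one hc).2 (Or.inl (Finset.card_eq_zero.1 h))) h3
  · exact Or.inl ((isConj_octad ⟨hc, h⟩).trans h2)
  · exact Or.inr ((isConj_dodecad ⟨hc, h⟩).trans h2)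
  · rw [← zs_model.compl hc] at h2
    exact Or.inl ((isConj_octad ⟨hc.compl, by rw [Finset.card_compl, Leech.card_pt, h]⟩).trans h2)
  · exact absurd ((sg_eq_one hc).2 (Or.inr (Finset.eq_univ_of_card _ (h.trans Leech.card_pt.symm)))) h3

/-- The matrix of an element of order 52. -/
def Fa.r52 : ℕ :=
  0x100010001000300030000fffd000100010000ffff00010000fffd0000fffefffeffff00010000fffd00010000fffeffff000100010002ffff000100010000fffd00010002fffd000100010000fffefffeffff0000fffd000100010000fffefffefffeffff0000fffcfffefffefffefffefffefffcfffefffefffeffff0000fffcfffcfffefffeffff0002ffff00010000fffeffff0001000100030002fffeffff00030000fffefffefffeffff000100010000ffff0002ffff0002ffff000100010002ffff00010000fffefffefffefffeffff0000ffff0002fffeffff000100010000fffefffefffefffefffb00010001000100010002ffff00010000fffd0000fffcffff000100010000fffcfffeffff000300010001000100010000fffefffefffeffff00010000fffefffefffefffeffff0000fffeffff00030002fffcfffd0000ffff0002fffefffeff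ff00010000ffff0002fffd00010002fffefffefffeffff0000fffefffefffeffff0000fffd00010002fffefffefffeffff00010000fffeffff0000fffcfffeffff0002fffeffff0000fffefffefffeffff00010001000100030002fffefffeffff0000fffcfffeffff000100010002ffff0002fffefffefffcfffefffefffefffefffd00010000fffeffff0002fffeffff0001000100050000fffeffff00010001000100010000ffff0000fffd00010000fffefffeffff0001000100010000fffcfffefffeffff00030000fffcfffefffeffff000300030000fffefffefffefffefffd00010000fffefffefffefffeffff0001000100010000fffeffff0001000100010000fffd000300010000fffd0000fffefffefffefffd00010001000100010002ffff00010000fffefffefffd00010000fffd0000ffff00010000fffd0000fffeffff000300010001000100010000ffff0003000100010002ffff00010001000100010000ffff00010001000100010002fffeffff000100010000fffd000100030002ffff000300010000ffff0002fffefffefffefffcfffefffeffff0003000100010000fffefffefffefffeffff0000fffd00010000ffff0002fffd0001000100010000fffefffd00010000fffcfffefffeffff000100010001000100010002ffff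0000fffcfffeffff00010001000100010000ffff0001000100010000fffeffff00030000fffcfffd000100010002fffefffd0000fffeffff00010001000100010000ffff0001000500010000fffefffeffff0001000100010000fffcfffefffefffeffff00010000fffefffeffff0002ffff0000fffefffeffff00030001000100010002ffff00030002ffff000100010000fffcfffeffff00010000fffd00010000fffefffd0000fffd0000fffefffeffff000100010000fffd0000fffefffefffeffff00010000ffff000300030002ffff0000fffefffefffeffff0000fffd0000fffefffefffefffefffefffd0000fffeffff00010000fffefffefffeffff000300010002fffefffeffff0000fffd0000fffeffff0002fffeffff0000fffd00010000fffeffff0000fffd000100010000fffefffd0001000100010002ffff0002fffd0001000100010000fffeffff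

/-- The two letters. -/
noncomputable def Fa.R52 (i : ℕ) : ℕ := Bool.rec CZ.rN Fa.r52 (Nat.beq i 0)

theorem Fa.exists_52 : ∃ g : Co0, g ^ 26 = negOne ∧ g ^ 4 ≠ 1 ∧ g ^ 4 ≠ negOne := by
  have h : CZ.Ok Fa.R52 2 := by
    unfold CZ.Ok
    decide +kernel
  have h0 : CZ.L Fa.R52 1 = negOne := (congrArg LC.el (by decide +kernel)).trans CZ.el_rN
  have h1 := h.eq (v := List.replicate 26 0) (w := [1]) (by decide +kernel)
  have h2 := h.ne (v := List.replicate 4 0) (w := []) (by decide +kernel)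
  have h3 := h.ne (v := List.replicate 4 0) (w := [1]) (by decide +kernel)
  simp only [evalW, List.map_replicate, List.prod_replicate, List.map_cons, List.map_nil, List.prod_cons,
    List.prod_nil, mul_one, h0] at h1 h2 h3
  exact ⟨_, h1, h2, h3⟩

theorem invol_cases {x : Co1} (h1 : x ≠ 1) (h2 : x * x = 1) :
    IsConj (sg O0) x ∨ IsConj (sg D0) x ∨ 13 ∣ Nat.card (centralizer ({x} : Set Co1)) := by
  obtain ⟨g, rfl⟩ := CZ.co1_surj x
  rw [← map_mul, CZ.co1_eq_one] at h2
  rcases h2 with h2 | h2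
  · exact (Fa.cases_of_sq h2 h1).imp_right Or.inl
  obtain ⟨j, -, hj⟩ := CZ.exists_tJ
  obtain ⟨u, u1, u2, u3⟩ := Fa.exists_52
  obtain ⟨a, ha⟩ := hj g h2
  obtain ⟨b, hb⟩ := hj (u ^ 13) (by rw [← pow_add, u1])
  have h3 : IsConj (co1Pi (u ^ 13)) (co1Pi g) :=
    co1Pi.map_isConj ((isConj_iff.2 ⟨b, hb⟩).trans (isConj_iff.2 ⟨a, ha⟩).symm)
  rw [Fa.card_cent_conj h3]
  refine Or.inr (Or.inr (Fa.dvd_card_cent (x := co1Pi (u ^ 4)) (by norm_num) ?_ ?_ fun e => ?_))
  · rw [← map_mul, ← map_mul, ← pow_add, ← pow_add]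
  · rw [← map_pow, ← pow_mul, show 4 * 13 = 26 + 26 from rfl, pow_add, u1, Leech.negOne_mul_self, map_one]
  · exact (CZ.co1_eq_one.1 e).elim u2 u3

theorem Fa.exists_lift {x : Co1} (hx : IsConj (sg O0) x) : ∃ a : Co0, co1Pi a = x ∧ a * a = 1 ∧ CZ.tau a = -64 := by
  obtain ⟨c, rfl⟩ := isConj_iff.1 (Fa.isConj_tO.symm.trans hx)
  obtain ⟨k, rfl⟩ := CZ.co1_surj c
  exact ⟨k * CZ.tO * k⁻¹, by rw [map_mul, map_mul, map_inv], by rw [conj_mul, CZ.tO_sq, mul_one, mul_inv_cancel],
    by rw [CZ.tau_conj, CZ.tau_tO]⟩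

theorem mul_cases {x y : Co1} (hx : IsConj (sg O0) x) (hy : IsConj (sg O0) y) (h : x * y = y * x) (hne : x ≠ y) :
    IsConj (sg O0) (x * y) ∨ IsConj (sg D0) (x * y) := by
  obtain ⟨a, rfl, a1, -⟩ := Fa.exists_lift hx
  obtain ⟨b, rfl, b1, b2⟩ := Fa.exists_lift hy
  have h1 : a * b = b * a := by
    rcases CZ.co1_eq.1 (show co1Pi (a * b * a⁻¹) = co1Pi b by
      rw [map_mul, map_mul, map_inv, h, mul_inv_cancel_right]) with e | e
    · exact mul_inv_eq_iff_eq_mul.1 e
    · have h2 := CZ.tau_conj a b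
      rw [e, CZ.tau_neg, b2] at h2
      omega
  rw [← map_mul]
  refine Fa.cases_of_sq (by rw [mul_assoc, ← mul_assoc b, ← h1, mul_assoc, b1, mul_one, a1]) fun e => hne ?_
  rw [map_mul] at e
  rw [eq_inv_of_mul_eq_one_left e, inv_eq_of_mul_eq_one_right (by rw [← map_mul, b1, map_one])]

/-- A minimal vector supported on a dodecad has all coordinates divisible by four. -/
theorem Fa.four_dvd_of_supp {d : Finset GolayPt} (hd : d ∈ dodecads) {v : Λ} (hv : nm v = 32)
    (h : ∀ k ∉ d, (v : Vec) k = 0) (i : GolayPt) : (v : Vec) i % 4 = 0 := by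
  obtain ⟨p, hp⟩ : ∃ p, p ∉ d := by
    by_contra h0
    have h1 := hd.2
    rw [Finset.eq_univ_of_forall (by simpa using h0 : ∀ p, p ∈ d), Leech.card_univ_pt] at h1
    omega
  obtain ⟨c, hc⟩ := Leech.evenL_of_even v.2 (i := p) (by rw [h p hp]; rfl)
  have h1 : c ⊆ d := fun k hk => by
    by_contra h0
    have := (hc.mem_iff k).1 hk
    rw [h k h0] at this
    omega
  obtain ⟨t, t0, -, t1⟩ := hc.excess
  have h2 : 0 ≤ ∑ i, t i := Finset.sum_nonneg fun i _ => t0 i
  have h3 := (hc.1.symmDiff (d := d) hd.1).card_cases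
  have h4 := hc.1.card_cases
  have h5 := Finset.card_le_card h1
  rw [symmDiff_of_le h1, Finset.card_sdiff_of_subset h1, hd.2] at h3
  rw [← Leech.nm_def, hv] at t1
  rw [hd.2] at h5
  have h6 := hc.2.1 i
  rwa [Finset.card_eq_zero.1 (show c.card = 0 by omega), if_neg (Finset.notMem_empty _)] at h6

theorem Fa.supp_smul {g : Co0} {c d : Finset GolayPt} {hc : IsCode c} {hd : IsCode d}
    (h : g * Leech.sign c hc = Leech.sign d hd * g) {v : Λ} (hv : ∀ k ∉ c, (v : Vec) k = 0) :
    ∀ k ∉ d, ((g • v : Λ) : Vec) k = 0 := fun k hk => by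
  have h1 : Leech.sign c hc • v = -v := Subtype.ext (funext fun i => by
    rw [Leech.sign_apply, AddSubgroup.coe_neg, Pi.neg_apply]
    split_ifs with e
    · rfl
    · rw [hv i e]; rfl)
  have h2 := congrArg (fun x : Co0 => ((x • v : Λ) : Vec) k) h
  simp only [mul_smul, h1, Leech.sign_apply, if_neg hk] at h2
  rw [smul_neg, AddSubgroup.coe_neg, Pi.neg_apply] at h2
  omega

theorem Fa.mem_Mon_of_dodecad {g : Co0} {c d : Finset GolayPt} (hc : c ∈ dodecads) (hd : d ∈ dodecads)
    (h : g * Leech.sign c hc.1 = Leech.sign d hd.1 * g) : g ∈ Leech.Mon := by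
  obtain ⟨i, hi⟩ : c.Nonempty := Finset.card_pos.1 (by rw [hc.2]; norm_num)
  have hn : nm (g • e8 i) = 64 := by rw [Leech.nm_smul, Leech.nm_e8]
  have h0 := Fa.supp_smul h (v := e8 i) fun k hk => by rw [Leech.e8_apply, if_neg fun e : k = i => hk (e ▸ hi)]
  have h1 : ∀ p ∈ d, ∀ q ∈ d, p ≠ q → ∀ t : ℤˣ,
      (((g • e8 i : Λ) : Vec) p + t * ((g • e8 i : Λ) : Vec) q) % 8 = 0 := fun p hp q hq hpq t => by
    have h2 := Fa.four_dvd_of_supp hc (v := g⁻¹ • v44 p q 1 t) (by rw [Leech.nm_smul, Leech.nm_v44 hpq])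
      (Fa.supp_smul (hc := hd.1) (hd := hc.1) (by rw [inv_mul_eq_iff_eq_mul, ← mul_assoc, h, mul_inv_cancel_right])
        fun k hk => by
          rw [Leech.v44_apply, if_neg fun e : k = p => hk (e ▸ hp), if_neg fun e : k = q => hk (e ▸ hq), add_zero]) i
    have h3 := Leech.ip_smul_left g (e8 i) (v44 p q 1 t)
    rw [Leech.ip_v44, Leech.e8_ip, Units.val_one, one_mul] at h3
    omega
  generalize hw : g • e8 i = w at hn h0 h1
  have h2 : ∀ p, (w : Vec) p % 8 = 0 := fun p => by
    by_contra h3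
    have hp : p ∈ d := by
      by_contra e
      exact h3 (by rw [h0 p e]; rfl)
    have h4 : ∀ q ∈ d, (16 : ℤ) ≤ (w : Vec) q ^ 2 := fun q hq => by
      obtain ⟨r, hr, hrq⟩ := Finset.exists_mem_ne (s := d) (by rw [hd.2]; norm_num) q
      have a1 := h1 r hr q hq hrq 1
      have a2 := h1 r hr q hq hrq (-1)
      have a3 : ((w : Vec) p + (w : Vec) q) % 8 = 0 ∨ p = q :=
        or_iff_not_imp_right.2 fun e => by simpa using h1 p hp q hq e 1
      simp only [Units.val_one, Units.val_neg] at a1 a2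
      have a4 : 4 ≤ (w : Vec) q ∨ (w : Vec) q ≤ -4 := by
        rcases a3 with e | rfl <;> omega
      rcases a4 with e | e <;> nlinarith
    have h5 := Finset.card_nsmul_le_sum d _ _ h4
    have h6 := Finset.sum_le_sum_of_subset_of_nonneg (Finset.subset_univ d)
      fun k _ _ => sq_nonneg ((w : Vec) k)
    rw [← Leech.sqNorm_def, ← Leech.nm_def, hn] at h6
    rw [hd.2] at h5
    simp only [nsmul_eq_mul] at h5
    omega
  obtain ⟨j, hj⟩ : ∃ j, (w : Vec) j ≠ 0 := by
    by_contra e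
    push Not at e
    rw [show w = 0 from Subtype.ext (funext e), Leech.nm_zero] at hn
    omega
  refine Leech.mem_Mon_of_e8 (i := i) (j := j) (hw ▸ Std.eq_pm_e8 hn fun k hk => ?_)
  by_contra e
  have h3 := Leech.add_le_sum_of_nonneg (fun k => sq_nonneg ((w : Vec) k)) hk
  rw [← Leech.sqNorm_def, ← Leech.nm_def, hn] at h3
  have a1 := h2 j
  have a2 := h2 k
  have a3 : 8 ≤ (w : Vec) j ∨ (w : Vec) j ≤ -8 := by omega
  have a4 : 8 ≤ (w : Vec) k ∨ (w : Vec) k ≤ -8 := by omega
  rcases a3 with a3 | a3 <;> rcases a4 with a4 | a4 <;> nlinarith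

theorem cent_D0 {x : Co1} (h : x * sg D0 = sg D0 * x) : ∃ c ∈ CW, ∃ m : M24, x = sg c * pm m := by
  obtain ⟨g, rfl⟩ := CZ.co1_surj x
  refine mem_map_Mon.1 ⟨g, ?_, rfl⟩
  rw [sg_eq D0_mem.1, ← map_mul, ← map_mul, CZ.co1_eq] at h
  rcases h with h | h
  · exact Fa.mem_Mon_of_dodecad D0_mem D0_mem h
  · refine Fa.mem_Mon_of_dodecad D0_mem (d := D0ᶜ) ⟨IsCode.compl D0_mem.1, ?_⟩ ?_
    · rw [Finset.card_compl, Leech.card_pt, D0_mem.2]
    · exact h.trans ((mul_assoc _ _ _).symm.trans (congrArg (· * g) (Leech.sign_compl _ _).symm))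

end Cfsg.Agent.C1T
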