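import Mathlib
import Cfsg.Agent.C1T.VC

/-!
The letters.
-/

set_option autoImplicit false
set_option maxRecDepth 100000

namespace Cfsg.Agent.C1T

open Cfsg.Agent.Spor Cfsg.Agent.Spor.MB Cfsg.Agent.Spor.J4C Subgroup
open scoped Pointwise

variable {G : Type*} [Group G]

namespace Fr

/-- Change the signs of the images of the generators. -/
def tw (c e : ℕ) : ℕ := pk8 fun j => img c j ^^^ (if e.testBit j then 256 else 0)

theorem tw_lt (c e j : ℕ) : img c j ^^^ (if e.testBit j then 256 else 0) < 512 :=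
  Nat.xor_lt_two_pow (n := 9) (img_lt c j) (by split_ifs <;> norm_num)

theorem exists_tw {c c' : ℕ} (h0 : c' < 2 ^ 72) (h : ∀ j < 8, img c' j = img c j ∨ img c' j = img c j ^^^ 256)
    (h1 : img c' 0 = img c 0) (h4 : img c' 4 = img c 4) : ∃ e < 256, e &&& 17 = 0 ∧ c' = tw c e := by
  have hb : ∀ j < 8, (Nat.ofBits fun j : Fin 8 => decide (img c' j ≠ img c j)).testBit j = decide (img c' j ≠ img c j) :=
    fun j hj => Nat.testBit_ofBits_lt _ j hj
  refine ⟨_, Nat.ofBits_lt_two_pow fun j : Fin 8 => decide (img c' j ≠ img c j), ?_,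
    eq_of_img h0 (pk8_lt fun j _ => tw_lt _ _ j) fun j hj => ?_⟩
  · refine (show ∀ e < 256, e.testBit 0 = false → e.testBit 4 = false → e &&& 17 = 0 by decide +kernel) _
      (Nat.ofBits_lt_two_pow _) ?_ ?_
    · rw [hb 0 (by norm_num), h1]; simp
    · rw [hb 4 (by norm_num), h4]; simp
  · rw [tw, img_pk8 (fun j _ => tw_lt _ _ j) hj, hb j hj]
    by_cases e : img c' j = img c j
    · simp [e]
    · simpa [e] using (h j hj).resolve_left e

theorem sign_of : ∀ y < 512, ∀ y' < 512, qmul y' (qinv y) &&& 254 = 0 → qmul y 16 = qmul 16 y → qmul y' 16 = qmul 16 y' →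
    y' = y ∨ y' = y ^^^ 256 := fun y hy y' hy' h1 h2 h3 => by
  have h := (allLt_iff _ _).1 ((allLt_iff _ _).1 (show allLt 512 (fun y => bor (!Nat.beq (qmul y 16) (qmul 16 y))
    (Spor.force (qinv y) fun i => allLt 512 fun y' => bor (!Nat.beq (Nat.land (qmul y' i) 254) 0)
      (bor (!Nat.beq (qmul y' 16) (qmul 16 y')) (bor (Nat.beq y' y) (Nat.beq y' (Nat.xor y 256)))))) = true by
        decide +kernel) y hy |> fun h => by
    rw [bor_iff, feq] at h
    exact h.resolve_left (by simp [h2])) y' hy'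
  simp only [bor_iff, nbeq_iff] at h
  exact (h.resolve_left (by simpa using h1)).resolve_left (by simp [h3])

/-- The code acts trivially on the centraliser of `g 0` modulo `⟨z, g 0⟩`, but is not the identity. -/
noncomputable def bad (C : ℕ) : Bool :=
  Spor.force C fun C => band (!Nat.beq C aid) <| allLt 512 fun x =>
    bor (!Nat.beq (qmul x 1) (qmul 1 x)) (Nat.beq (Nat.land (qmul (app C x) (qinv x)) 254) 0)

/-- The conjugating elements for the letter `a`. -/
noncomputable def yA (e : ℕ) : ℕ := inn (getP 8 255 (nat_lit 0xc20062004200e20022008200a200020000000000000000000000000000000000ca006a004a00ea002a008a00aa000a0000000000000000000000000000000000ce006e004e00ee002e008e00ae000e0000000000000000000000000000000000c60066004600e60026008600a600060000000000000000000000000000000000c40064004400e40024008400a400040000000000000000000000000000000000cc006c004c00ec002c008c00ac000c0000000000000000000000000000000000c80068004800e80028008800a800080000000000000000000000000000000000c00060004000e00020008000a00000)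 e)

/-- The codes of the three letters. -/
def cT (e e' i : ℕ) : ℕ := if i = 0 then cL 2 else if i = 1 then tw (cL 3) e else tw (cL 6) e'

theorem yA_ok : allLt 256 (fun e => bor (!Nat.beq (Nat.land e 17) 0) (Spor.force (yA e) fun t => band (okA t)
    (band (Nat.beq (amul t t) aid) (band (Nat.beq (img t 0) 1) (band (Nat.beq (img t 4) 16)
      (Nat.beq (amul t (amul (tw (cL 2) e) t)) (cL 2))))))) = true := by decide +kernel

theorem l1_ok : allLt 256 (fun e => bor (!Nat.beq (Nat.land e 17) 0) (bor (bad (amul (tw (cL 3) e) (tw (cL 3) e)))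
    (!allL [0, 2, 32, 34, 64, 66, 96, 98, 128, 130, 160, 162, 192, 194, 224, 226] fun x => !Nat.beq e x))) = true := by
  decide +kernel

theorem l2_ok : allLt 256 (fun e => bor (!Nat.beq (Nat.land e 17) 0) (bor (bad (amul (tw (cL 6) e) (tw (cL 6) e)))
    (!allL [0, 2, 4, 6, 8, 10, 12, 14, 32, 34, 36, 38, 40, 42, 44, 46] fun x => !Nat.beq e x))) = true := by
  decide +kernel

theorem l3_ok : allL [0, 2, 32, 34, 64, 66, 96, 98, 128, 130, 160, 162, 192, 194, 224, 226] (fun e =>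
    allL [0, 2, 4, 6, 8, 10, 12, 14, 32, 34, 36, 38, 40, 42, 44, 46] fun e' =>
      bor (band (Nat.beq e 0) (Nat.beq e' 0)) <| bor (band (Nat.beq e 162) (Nat.beq e' 42)) <|
        !allL [powW 3 [1, 2], powW 4 [0, 0, 1, 2], powW 6 [0, 1, 2], powW 5 [0, 0, 1, 2, 1]] fun w =>
          !band (lettersLt 3 w) (bad (aev (cT e e') w))) = true := by decide +kernel

theorem mem_of_not_all {α : Type} {l : List α} {f : α → Bool} (h : (!allL l fun x => !f x) = true) :
    ∃ x ∈ l, f x = true := by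
  by_contra hn
  rw [(allL_iff _ _).2 fun x hx => by simpa using fun e => hn ⟨x, hx, e⟩] at h
  exact absurd h (by decide)

variable {z ρ : G} {g : ℕ → G} (p : StP z g ρ)

include p

theorem not_bad {k : G} {C : ℕ} (h1 : k * ρ = ρ * k) (h2 : Rp z g k C) : bad C ≠ true := fun h => by
  rw [bad, feq, band_iff, allLt_iff] at h
  have h3 : k = 1 := p.faith k h1 h2.1 fun q hq h4 => by
    obtain ⟨x, hx, rfl⟩ := p.q.mem_QG.1 hq
    rw [← p.q.qv_gen (k := 0) (by norm_num)] at h4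
    have h5 := ((bor_iff _ _).1 (h.2 x hx)).resolve_left (by simpa using p.q.code_comm hx (by norm_num) h4)
    rw [p.q.rp_app h2 hx, ← p.q.qv_qinv hx, ← p.q.qv_mul (app_lt _ _) (qinv_lt hx),
      p.q.mem_V (qmul_lt (app_lt _ _) (qinv_lt hx))]
    exact (nbeq_iff _ _).1 h5
  have h4 := h.1
  rw [p.q.rp_unique h2 (h3 ▸ p.q.rp_one), (nbeq_iff _ _).2 rfl] at h4
  exact absurd h4 (by decide)

theorem exists_k {h : G} {c : ℕ} (hh : Rp z g h c) (h0 : img c 0 = 1) (h4 : img c 4 = 16) :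
    ∃ k e, k * ρ = ρ * k ∧ e < 256 ∧ e &&& 17 = 0 ∧ Rp z g k (tw c e) := by
  have g0 : qv z g 1 = g 0 := p.q.qv_gen (k := 0) (by norm_num)
  have g4 : qv z g 16 = g 4 := p.q.qv_gen (k := 4) (by norm_num)
  have a0 := hh.2.2 0 (by norm_num)
  have a4 := hh.2.2 4 (by norm_num)
  rw [h0, g0] at a0
  rw [h4, g4] at a4
  obtain ⟨k, k1, k2, k3⟩ := p.dec h hh.1 (mul_inv_eq_iff_eq_mul.1 a0)
  obtain ⟨c', hc⟩ := p.st.exists_rp k2
  have b0 : img c' 0 = img c 0 := p.q.qv_inj (img_lt _ _) (img_lt _ _) (by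
    rw [← hc.2.2 0 (by norm_num), p.comm_g0 k1 k2, mul_inv_cancel_right, h0, g0])
  have b4 : img c' 4 = img c 4 := p.q.qv_inj (img_lt _ _) (img_lt _ _) (by
    rw [← hc.2.2 4 (by norm_num), p.kf k k1 k2, mul_inv_cancel_right, h4, g4])
  have cj : ∀ {x : G} {d j : ℕ}, Rp z g x d → x * g 4 * x⁻¹ = g 4 → j < 8 → g j * g 4 = g 4 * g j →
      qmul (img d j) 16 = qmul 16 (img d j) := fun {x d j} hx e hj e2 =>
    p.q.code_comm (img_lt _ _) (by norm_num) (by
      rw [← hx.2.2 j hj, g4, ← e]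
      calc _ = x * (g j * g 4) * x⁻¹ := by group
        _ = _ := by rw [e2]; group)
  obtain ⟨e, e1, e2, e3⟩ := exists_tw hc.2.1 (c := c) (fun j hj => by
    by_cases j0 : j = 0
    · exact Or.inl (j0 ▸ b0)
    by_cases j4 : j = 4
    · exact Or.inl (j4 ▸ b4)
    have d0 : g j * g 0 = g 0 * g j := p.q.comm j hj 0 (by omega) (by omega)
    have d4 : g j * g 4 = g 4 * g j := by
      rcases lt_or_gt_of_ne j4 with h | h
      exacts [(p.q.comm 4 (by norm_num) j h (by omega)).symm, p.q.comm j hj 4 h (by omega)]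
    have d1 := k3 _ (p.q.g_mem hj) d0
    rw [hc.2.2 j hj, hh.2.2 j hj, ← p.q.qv_qinv (img_lt _ _), ← p.q.qv_mul (img_lt _ _) (qinv_lt (img_lt _ _)),
      p.q.mem_V (qmul_lt (img_lt _ _) (qinv_lt (img_lt _ _)))] at d1
    exact sign_of _ (img_lt _ _) _ (img_lt _ _) d1 (cj hh a4 hj d4)
      (cj hc (by rw [p.kf k k1 k2, mul_inv_cancel_right]) hj d4)) b0 b4
  exact ⟨k, e, k1, e1, e2, e3 ▸ hc⟩

theorem exists_h : (∃ h, Rp z g h (cL 2)) ∧ (∃ h, Rp z g h (cL 3)) ∧ ∃ h, Rp z g h (cL 6) := by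
  obtain ⟨a, ha⟩ := p.st.exists_sq (c := 0x20280c010070201401) (by decide +kernel)
  obtain ⟨b, hb⟩ := p.st.exists_sq (c := 0x425204010206000401) (by decide +kernel)
  have h : ∀ i < 2, Rp z g (if i = 0 then a else b) (if i = 0 then amul 0x20280c010070201401 0x20280c010070201401
      else amul 0x425204010206000401 0x425204010206000401) := fun i _ => by split_ifs <;> assumption
  have t : ∀ {x : G} {c c' : ℕ}, Rp z g x c → Nat.beq c c' = true → ∃ h, Rp z g h c' := fun h e =>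
    ⟨_, (nbeq_iff _ _).1 e ▸ h⟩
  exact ⟨t ha (by decide +kernel),
    t (p.q.rp_word h (w := [0, 1, 0, 1, 0, 0, 0, 0, 0, 1, 0, 1, 1, 0, 0]) rfl) (by decide +kernel),
    t (p.q.rp_word h (w := [0, 0, 1, 1, 0, 1, 0, 0, 0, 0, 0, 1, 0, 1, 0]) rfl) (by decide +kernel)⟩

theorem exists_a : ∃ (g' : ℕ → G) (k : G), StP z g' ρ ∧ k * ρ = ρ * k ∧ Rp z g' k (cL 2) := by
  obtain ⟨h, hh⟩ := (exists_h p).1
  obtain ⟨k, e, k1, e1, e2, k2⟩ := exists_k p hh (by decide +kernel) (by decide +kernel)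
  have h1 := ((bor_iff _ _).1 ((allLt_iff _ _).1 yA_ok e e1)).resolve_left (by simpa using e2)
  rw [feq] at h1
  simp only [band_iff, nbeq_iff] at h1
  exact ⟨_, k, p.rebase h1.1 h1.2.2.1 h1.2.2.2.1, k1, h1.2.2.2.2 ▸ p.q.rp_rebase h1.1 h1.2.1 k2⟩

omit p in
theorem word_cm {k : ℕ → G} (hk : ∀ i, k i * ρ = ρ * k i) (w : List ℕ) : evalW k w * ρ = ρ * evalW k w := by
  induction w with
  | nil => rw [evalW_nil, one_mul, mul_one]
  | cons x w ih => rw [evalW_cons, mul_assoc, ih, ← mul_assoc, hk x, mul_assoc]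

theorem stL_of {k : ℕ → G} {c : ℕ → ℕ} (hk : ∀ i, k i * ρ = ρ * k i) (hc : ∀ i < 3, Rp z g (k i) (c i)) {τ : ℕ}
    (W : List (List ℕ)) (h : band (band (okA τ) (band (Nat.beq (amul τ τ) aid) (band (Nat.beq (img τ 0) 1)
      (Nat.beq (img τ 4) 16)))) (allLt 7 fun i => band (lettersLt 3 (W.getD i []))
        (Nat.beq (amul τ (amul (aev c (W.getD i [])) τ)) (cL i))) = true) : ∃ g' l : ℕ → G, StL z g' ρ l := by
  simp only [band_iff, nbeq_iff, allLt_iff] at h
  exact ⟨_, fun i => evalW k (W.getD i []), p.rebase h.1.1 h.1.2.2.1 h.1.2.2.2, fun i hi =>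
    (h.2 i hi).2 ▸ p.q.rp_rebase h.1.1 h.1.2.1 (p.q.rp_word hc (h.2 i hi).1), fun i _ => word_cm hk _⟩

end Fr

open Fr in
theorem StP.exists_stL {z ρ : G} {g : ℕ → G} (p : StP z g ρ) : ∃ g' l : ℕ → G, StL z g' ρ l := by
  obtain ⟨g, a, p, a1, a2⟩ := exists_a p
  obtain ⟨-, ⟨h, hh⟩, h', hh'⟩ := exists_h p
  obtain ⟨b, e, b1, e1, e2, b2⟩ := exists_k p hh (by decide +kernel) (by decide +kernel)
  obtain ⟨c, e', c1, f1, f2, c2⟩ := exists_k p hh' (by decide +kernel) (by decide +kernel)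
  have sq : ∀ {x : G}, x * ρ = ρ * x → x * x * ρ = ρ * (x * x) := fun h => by
    rw [mul_assoc, h, ← mul_assoc, h, mul_assoc]
  obtain ⟨x, m1, hx⟩ := mem_of_not_all (((bor_iff _ _).1 (((bor_iff _ _).1 ((allLt_iff _ _).1 l1_ok e e1)).resolve_left
    (by simpa using e2))).resolve_left (not_bad p (sq b1) (p.q.rp_mul b2 b2)))
  obtain rfl := (nbeq_iff _ _).1 hx
  obtain ⟨x, m2, hx⟩ := mem_of_not_all (((bor_iff _ _).1 (((bor_iff _ _).1 ((allLt_iff _ _).1 l2_ok e' f1)).resolve_left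
    (by simpa using f2))).resolve_left (not_bad p (sq c1) (p.q.rp_mul c2 c2)))
  obtain rfl := (nbeq_iff _ _).1 hx
  have hk : ∀ i, (if i = 0 then a else if i = 1 then b else c) * ρ = ρ * (if i = 0 then a else if i = 1 then b else c) :=
    fun i => by split_ifs <;> assumption
  have hc : ∀ i < 3, Rp z g (if i = 0 then a else if i = 1 then b else c) (cT e e' i) := fun i _ => by
    unfold cT
    split_ifs <;> assumption
  have h3 := (allL_iff _ _).1 ((allL_iff _ _).1 l3_ok e m1) e' m2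
  simp only [bor_iff, band_iff (Nat.beq _ _), nbeq_iff] at h3
  rcases h3 with ⟨rfl, rfl⟩ | ⟨rfl, rfl⟩ | h3
  · exact stL_of p hk hc (τ := aid) [[0, 2, 0, 1, 2, 0, 0, 2, 1, 0, 1, 0, 0], [0, 2, 0, 2, 1, 0, 0, 1, 2, 0, 1], [0], [1],
      [0, 0, 0, 0, 0, 0, 1, 0], [0, 0, 1, 0, 0, 0, 0, 0], [2]] (by decide +kernel)
  · exact stL_of p hk hc (τ := 0x40100410401004001) [[0, 0, 2, 0, 2, 1, 0, 0, 1, 2, 0, 1, 0],
      [0, 0, 1, 2, 0, 1, 0, 0, 0, 0, 0, 0, 2, 1], [0, 0, 0, 0, 0, 0], [2], [0, 2, 0, 0, 0, 0, 0, 0],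
      [0, 0, 0, 0, 0, 2, 0, 0], [1]] (by decide +kernel)
  · obtain ⟨w, -, hw⟩ := mem_of_not_all h3
    rw [band_iff] at hw
    exact absurd hw.2 (not_bad p (word_cm hk w) (p.q.rp_word hc hw.1))

end Cfsg.Agent.C1T
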