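import Mathlib
import Cfsg.Agent.C1T.Vee
import Cfsg.Agent.GT.Gaschutz
import Cfsg.Agent.GT.PiGroups

/-!
Calculus of the elements acting on `V` as elements of `M24`; a complement to `V` in a Sylow 2-subgroup; a section.
-/

set_option autoImplicit false
set_option linter.unusedSectionVars false

namespace Cfsg.Agent.C1T.Split

open Cfsg.Agent.Spor Cfsg.Agent.Spor.MB Cfsg.Agent.Spor.J4C Subgroup
open scoped Pointwise

/-- The `V`-part of a word in letters `vv (y i) * n i`. -/
noncomputable def cw (c y : ℕ → ℕ) (w : List ℕ) : ℕ :=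
  List.rec 0 (fun i _ ih => Spor.force ih fun r => Spor.force (c i) fun a => Nat.xor (y i) (va a r)) w

theorem cw_cons (c y : ℕ → ℕ) (i : ℕ) (w : List ℕ) : cw c y (i :: w) = y i ^^^ va (c i) (cw c y w) := rfl

theorem va_idc {x : ℕ} (hx : x < 2048) : va idc x = x := by
  have h := lam_smul (m := 1) (rep_mem hx)
  rw [one_smul, mask_unmask (rep_ok hx).2.1, (rep_ok hx).1, code_one] at h
  exact h.symm

theorem bas_ok : ∀ k < 12, isCode (bas k) = true ∧ bas k < 2 ^ 24 ∧ pc (bas k) = 8 := by decide +kernel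

theorem bas_sep : ∀ i < 24, ∀ j < 24, (∀ k < 12, (bas k).testBit i = (bas k).testBit j) → i = j := by
  decide +kernel

/-- `M24` acts faithfully on the code modulo the all-one word. -/
theorem faith {m : PG} (hm : m ∈ M24) (h : ∀ x < 2048, va (code m) x = x) : m = 1 := by
  have h1 : ∀ k < 12, m • unmask (bas k) = unmask (bas k) := fun k hk => by
    obtain ⟨c1, c2, c3⟩ := bas_ok k hk
    have hc := unmask_mem_CW c1
    have h2 := lam_smul (m := m) hc
    rw [h _ (lam_lt _)] at h2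
    rcases unmask_rep_lam (smul_mem_CW hm hc) with e | e <;> rcases unmask_rep_lam hc with e' | e' <;>
      rw [h2] at e
    · exact e.symm.trans e'
    · have h3 := congrArg Finset.card (e.symm.trans e')
      rw [Finset.card_smul_finset, Finset.card_compl, card_golayPt, card_unmask, c3] at h3
      omega
    · have h3 := congrArg Finset.card (e.symm.trans e')
      rw [Finset.card_compl, Finset.card_smul_finset, card_golayPt, card_unmask, c3] at h3
      omega
    · exact compl_injective (e.symm.trans e')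
  ext1 p
  refine ix_injective (bas_sep _ (ix_lt _) _ (ix_lt _) fun k hk => ?_)
  rw [Bool.eq_iff_iff, ← mem_unmask, ← mem_unmask]
  conv_lhs => rw [← h1 k hk]
  exact Finset.smul_mem_smul_finset_iff m

variable {G : Type*} [Group G]

theorem exists_gp {e : ℕ → G} {n : ℕ} (h1 : ∀ i < n, e i * e i = 1) (h2 : ∀ i < n, ∀ j < n, e i * e j = e j * e i)
    {y : G} (hy : y ∈ genLt e n) : ∃ x < 2 ^ n, gp e x n = y := by
  induction hy using closure_induction with
  | mem y hy =>
    obtain ⟨k, hk, rfl⟩ := hy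
    exact ⟨2 ^ k, Nat.pow_lt_pow_right (by norm_num) hk, gp_two_pow e hk⟩
  | one => exact ⟨0, by positivity, gp_zero e n⟩
  | mul a b _ _ ha hb =>
    obtain ⟨x, hx, rfl⟩ := ha
    obtain ⟨y, hy, rfl⟩ := hb
    exact ⟨x ^^^ y, Nat.xor_lt_two_pow hx hy, gp_xor h1 h2 x y⟩
  | inv a _ ha =>
    obtain ⟨x, hx, rfl⟩ := ha
    refine ⟨x, hx, eq_inv_of_mul_eq_one_left ?_⟩
    rw [← gp_xor h1 h2, Nat.xor_self, gp_zero]

theorem card_genLt_le {e : ℕ → G} {n : ℕ} (h1 : ∀ i < n, e i * e i = 1)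
    (h2 : ∀ i < n, ∀ j < n, e i * e j = e j * e i) : Nat.card (genLt e n) ≤ 2 ^ n := by
  have h := Nat.card_le_card_of_surjective
    (fun x : Fin (2 ^ n) => (⟨gp e x n, gp_mem (fun i hi => mem_genLt e hi) x⟩ : genLt e n)) fun y => by
      obtain ⟨x, hx, e⟩ := exists_gp h1 h2 y.2
      exact ⟨⟨x, hx⟩, Subtype.ext e⟩
  simpa using h

theorem gp_mem' {e : ℕ → G} {n x : ℕ} {K : Subgroup G} (h : ∀ i < n, x.testBit i = true → e i ∈ K) :
    gp e x n ∈ K := by
  induction n with
  | zero => exact K.one_mem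
  | succ n ih =>
    rw [gp_succ]
    refine K.mul_mem (ih fun i hi => h i (by omega)) ?_
    split_ifs with h1
    exacts [h n (by omega) h1, K.one_mem]

theorem card_sup_le [Finite G] {H N : Subgroup G} {a b : ℕ} (h : H ≤ normalizer (N : Set G)) (ha : Nat.card H ≤ a)
    (hb : Nat.card N ≤ b) : Nat.card ↥(H ⊔ N) ≤ a * b :=
  (Nat.le_of_dvd (Nat.mul_pos Nat.card_pos Nat.card_pos) (GT.card_sup_dvd_of_le_normalizer h)).trans
    (Nat.mul_le_mul ha hb)

theorem card_zpowers_le {x : G} {n : ℕ} (hn : 0 < n) (h : x ^ n = 1) : Nat.card (zpowers x) ≤ n := by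
  rw [Nat.card_zpowers]
  exact orderOf_le_of_pow_eq_one hn h

theorem mem_cj {K : Subgroup G} {x y : G} (h : x * y * x⁻¹ ∈ K) : y ∈ K.comap (MulAut.conj x).toMonoidHom := h

theorem mem_norm [Finite G] {K : Subgroup G} {x : G} (h : K ≤ K.comap (MulAut.conj x).toMonoidHom) :
    x ∈ normalizer (K : Set G) := mem_normalizer_fintype fun _ hn => h hn

/-- The relations of `D8 × 2`. -/
theorem card_le_sixteen [Finite G] {a w b : G} (ha : a * a = 1) (hw : w * w = 1) (hb : b * b = 1)
    (e1 : b * a * b⁻¹ = a) (e2 : b * w * b⁻¹ = w) (haw : a * w * (a * w) * (a * w * (a * w)) = 1) :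
    Nat.card ↥(zpowers b ⊔ (zpowers a ⊔ zpowers (a * w))) ≤ 16 := by
  have iw : w⁻¹ = w := inv_eq_of_mul_eq_one_right hw
  refine card_sup_le (a := 2) (b := 8) (zpowers_le.2 (mem_norm (sup_le (zpowers_le.2 ?_) (zpowers_le.2 ?_))))
    (card_zpowers_le (by norm_num) (by rw [sq, hb]))
    (card_sup_le (a := 2) (b := 4) (zpowers_le.2 (mem_norm (zpowers_le.2 ?_)))
      (card_zpowers_le (by norm_num) (by rw [sq, ha])) (card_zpowers_le (by norm_num) ?_))
  · refine mem_cj ?_
    rw [e1]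
    exact mem_sup_left (mem_zpowers a)
  · refine mem_cj ?_
    rw [show b * (a * w) * b⁻¹ = b * a * b⁻¹ * (b * w * b⁻¹) by group, e1, e2]
    exact mem_sup_right (mem_zpowers _)
  · refine mem_cj ?_
    rw [show a * (a * w) * a⁻¹ = (a * w)⁻¹ by rw [← mul_assoc, ha, one_mul, mul_inv_rev, iw]]
    exact inv_mem (mem_zpowers _)
  · rw [← haw]; simp only [pow_succ, pow_zero, one_mul, mul_assoc]

/-- `h` acts on the `v x` as the element of `M24` with code `c`. -/
def Lf (v : ℕ → G) (h : G) (c : ℕ) : Prop := okN c ∧ ∀ x < 2048, h * v x * h⁻¹ = v (va c x)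

namespace Lf

variable {v : ℕ → G}

theorem one : Lf v 1 idc := ⟨⟨1, M24.one_mem, code_one⟩, fun x hx => by rw [va_idc hx, one_mul, inv_one, mul_one]⟩

theorem mul {h k : G} {a b : ℕ} (l : Lf v h a) (m : Lf v k b) : Lf v (h * k) (MB.mul a b) := by
  obtain ⟨⟨p, hp, rfl⟩, h1⟩ := l
  obtain ⟨⟨q, hq, rfl⟩, h2⟩ := m
  rw [← code_mul]
  refine ⟨⟨_, M24.mul_mem hp hq, rfl⟩, fun x hx => ?_⟩
  rw [va_mul hq hx, ← h1 _ (va_lt _ _), ← h2 x hx]
  group

theorem inv {h : G} {a : ℕ} (l : Lf v h a) : Lf v h⁻¹ (MB.inv a) := by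
  obtain ⟨⟨p, hp, rfl⟩, h1⟩ := l
  rw [← code_inv]
  refine ⟨⟨_, M24.inv_mem hp, rfl⟩, fun x hx => ?_⟩
  have h2 := h1 _ (va_lt (code p⁻¹) x)
  rw [← va_mul (M24.inv_mem hp) hx, mul_inv_cancel, code_one, va_idc hx] at h2
  rw [← h2]
  group

theorem act' {h : G} {c : ℕ} (l : Lf v h c) {x : ℕ} (hx : x < 2048) : h * v x = v (va c x) * h := by
  rw [← l.2 x hx, inv_mul_cancel_right]

theorem word {e : ℕ → G} {c : ℕ → ℕ} {m : ℕ} (h : ∀ i < m, Lf v (e i) (c i)) {w : List ℕ}
    (hw : lettersLt m w = true) : Lf v (evalW e w) (evC c w) := by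
  rw [lettersLt_iff] at hw
  induction w with
  | nil => exact one
  | cons x w ih =>
    rw [evalW_cons]
    exact (h x (hw x (by simp))).mul (ih fun y hy => hw y (by simp [hy]))

end Lf

/-- The pairs of an element of `G` and an element of `M24` with the same action. -/
def Gam (v : ℕ → G) : Subgroup (G × PG) where
  carrier := {p | Lf v p.1 (code p.2)}
  one_mem' := by
    show Lf v 1 (code 1)
    rw [code_one]; exact Lf.one
  mul_mem' {p q} hp hq := by
    show Lf v (p.1 * q.1) (code (p.2 * q.2))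
    rw [code_mul]; exact Lf.mul hp hq
  inv_mem' {p} hp := by
    show Lf v p.1⁻¹ (code p.2⁻¹)
    rw [code_inv]; exact Lf.inv hp

/-- The projection to `M24`. -/
def sg (v : ℕ → G) : Gam v →* PG := (MonoidHom.snd G PG).comp (Gam v).subtype

/-- The projection to `G`. -/
def pr (v : ℕ → G) : Gam v →* G := (MonoidHom.fst G PG).comp (Gam v).subtype

theorem sg_mem {v : ℕ → G} (p : Gam v) : sg v p ∈ M24 := by
  obtain ⟨m, hm, e⟩ := (show Lf v _ _ from p.2).1
  rw [code_injective e] at hm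
  exact hm

theorem lf_pr {v : ℕ → G} (p : Gam v) : Lf v (pr v p) (code (sg v p)) := p.2

theorem Lf.exists_gam {v : ℕ → G} {h : G} {c : ℕ} (l : Lf v h c) : ∃ p : Gam v, pr v p = h ∧ code (sg v p) = c := by
  obtain ⟨m, hm, rfl⟩ := l.1
  exact ⟨⟨(h, m), l⟩, rfl, rfl⟩

theorem valN_evC (ψ : M24 →* G) {c : ℕ → ℕ} {m : ℕ} (h : ∀ i < m, inM24 (c i) = true) {w : List ℕ}
    (hw : ∀ i ∈ w, i < m) : okN (evC c w) ∧ valN ψ (evC c w) = evalW (fun i => valN ψ (c i)) w := by
  induction w with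
  | nil => exact ⟨⟨1, M24.one_mem, code_one⟩, valN_one ψ⟩
  | cons x w ih =>
    have h1 := ih fun y hy => hw y (by simp [hy])
    have h2 := valN_mul ψ (okN_of (h x (hw x (by simp)))) h1.1
    rw [evalW_cons, ← h1.2]
    exact h2

/-- `ψ` is a section. -/
def Sec (v : ℕ → G) (ψ : M24 →* G) : Prop := ∀ x : M24, Lf v (ψ x) (code x)

theorem Sec.val {v : ℕ → G} {ψ : M24 →* G} (h : Sec v ψ) {c : ℕ} (hc : okN c) : Lf v (valN ψ c) c := by
  obtain ⟨x, hx, rfl⟩ := hc
  rw [valN_code, ext_of_mem ψ hx]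
  exact h ⟨x, hx⟩

/-- The generators of the elementary abelian group of order 64. -/
def eg (g : ℕ → G) (ρ : G) (k : ℕ) : G := if k < 3 then g (k + 5) else ρ * g (k + 2) * ρ⁻¹

variable [Finite G] {z ρ : G} {g l : ℕ → G} (s : StV z g ρ l)

include s

theorem vv_sq (x : ℕ) : vv z g ρ l x * vv z g ρ l x = 1 := by rw [← s.xor, Nat.xor_self, vv_zero]

theorem vv_comm (x y : ℕ) : vv z g ρ l x * vv z g ρ l y = vv z g ρ l y * vv z g ρ l x := by
  rw [← s.xor, ← s.xor, Nat.xor_comm]

theorem vv_inj {a b : ℕ} (ha : a < 2048) (hb : b < 2048) (e : vv z g ρ l a = vv z g ρ l b) : a = b :=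
  Nat.eq_of_xor_eq_zero (s.inj _ (xor_lt ha hb) (by rw [s.xor, e, vv_sq s]))

theorem lf_V (y : ℕ) : Lf (vv z g ρ l) (vv z g ρ l y) idc :=
  ⟨⟨1, M24.one_mem, code_one⟩, fun x hx => by rw [va_idc hx, vv_comm s, mul_inv_cancel_right]⟩

theorem lf_nl {i : ℕ} (hi : i < 8) : Lf (vv z g ρ l) (nl g ρ l i) (nP i) :=
  ⟨okN_of (nP_ok i (by omega)), s.act i hi⟩

theorem lf_vv {h : G} {c : ℕ} (hl : Lf (vv z g ρ l) h c) (y : ℕ) : Lf (vv z g ρ l) (vv z g ρ l y * h) c := by
  have h1 := (lf_V s y).mul hl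
  obtain ⟨x, -, rfl⟩ := hl.1
  rwa [← code_one, ← code_mul, one_mul] at h1

theorem lf_idc {h : G} (hl : Lf (vv z g ρ l) h idc) : ∃ y < 2048, h = vv z g ρ l y := by
  have h1 : ∀ k < 11, h * vg z g ρ l k = vg z g ρ l k * h := fun k hk => by
    have h2 : 2 ^ k < 2048 := Nat.pow_lt_pow_right (n := 11) (by norm_num) hk
    rw [← vv_gen hk, hl.act' h2, va_idc h2]
  refine s.cent h (h1 10 (by norm_num)) fun k hk => ?_
  have h2 := h1 k (by omega)
  rwa [vg, if_pos hk] at h2

theorem lf_diff {h k : G} {c : ℕ} (h1 : Lf (vv z g ρ l) h c) (h2 : Lf (vv z g ρ l) k c) :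
    ∃ y < 2048, h = vv z g ρ l y * k := by
  have h3 := h1.mul h2.inv
  obtain ⟨x, -, rfl⟩ := h1.1
  rw [← code_inv, ← code_mul, mul_inv_cancel, code_one] at h3
  obtain ⟨y, hy, e⟩ := lf_idc s h3
  exact ⟨y, hy, by rw [← e, inv_mul_cancel_right]⟩

theorem range_sg : (sg (vv z g ρ l)).range = M24 := by
  refine le_antisymm (by rintro _ ⟨p, rfl⟩; exact sg_mem p) ?_
  obtain ⟨y, hy⟩ := s.ex
  have h1 : ∀ i < 9, Lf (vv z g ρ l) (if i < 8 then nl g ρ l i else y) (nP i) := fun i hi => by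
    split_ifs with h
    · exact lf_nl s h
    · rw [show i = 8 by omega]
      exact ⟨okN_of (nP_ok 8 (by norm_num)), hy⟩
  have h2 : ∀ {w c}, lettersLt 9 w = true → evC nP w = c → toPerm c ∈ (sg (vv z g ρ l)).range := by
    intro w c hw e
    obtain ⟨p, -, hp⟩ := (Lf.word h1 hw).exists_gam
    rw [← e, ← hp, toPerm_code]
    exact ⟨p, rfl⟩
  rw [← genLt_xy]
  refine genLt_le fun j hj => ?_
  interval_cases j
  · exact h2 (w := [7, 0, 0, 8, 8, 7, 0, 8, 5, 6, 7, 6, 3, 5, 0, 4]) (by decide +kernel) (by decide +kernel)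
  · exact h2 (w := [7, 4, 0, 8, 8, 7, 0, 8, 7, 6, 5, 6, 5, 2, 0, 4, 2]) (by decide +kernel) (by decide +kernel)

theorem pr_inj : Function.Injective (pr (vv z g ρ l)) := by
  refine (injective_iff_map_eq_one _).2 fun p hp => ?_
  have h1 := lf_pr p
  rw [hp] at h1
  have h2 := faith (sg_mem p) fun x hx => vv_inj s (va_lt _ _) hx (by rw [← h1.2 x hx, one_mul, inv_one, mul_one])
  exact Subtype.ext (Prod.ext hp h2)

theorem ker_sg {p : Gam (vv z g ρ l)} (hp : p ∈ (sg (vv z g ρ l)).ker) :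
    ∃ y < 2048, pr (vv z g ρ l) p = vv z g ρ l y := by
  have h1 := lf_pr p
  rw [MonoidHom.mem_ker.1 hp, code_one] at h1
  exact lf_idc s h1

theorem evalW_vv {y : ℕ → ℕ} {w : List ℕ} (hw : ∀ i ∈ w, i < 8 ∧ y i < 2048) :
    cw nP y w < 2048 ∧
      evalW (fun i => vv z g ρ l (y i) * nl g ρ l i) w = vv z g ρ l (cw nP y w) * evalW (nl g ρ l) w := by
  induction w with
  | nil => exact ⟨(by norm_num : 0 < 2048), by rw [show cw nP y [] = 0 from rfl, vv_zero]; simp⟩
  | cons x w ih =>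
    have h1 := ih fun y hy => hw y (by simp [hy])
    have h2 := hw x (by simp)
    refine ⟨xor_lt h2.2 (va_lt _ _), ?_⟩
    rw [evalW_cons, evalW_cons, h1.2, cw_cons, s.xor, mul_assoc, ← mul_assoc (nl g ρ l x),
      (lf_nl s h2.1).act' h1.1]
    simp only [mul_assoc]

theorem g_comm {i j : ℕ} (h1 : 4 ≤ i) (hi : i < 8) (h2 : 4 ≤ j) (hj : j < 8) : g i * g j = g j * g i := by
  rcases lt_trichotomy i j with h | rfl | h
  · exact (s.l'.q.comm _ hj _ h (by omega)).symm
  · rfl
  · exact s.l'.q.comm _ hi _ h (by omega)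

theorem g_g0 {j : ℕ} (h0 : 0 < j) (hj : j < 8) (h4 : j ≠ 4) : g j * g 0 = g 0 * g j :=
  s.l'.q.comm _ hj _ h0 (by omega)

theorem can {j : ℕ} (h0 : 0 < j) (hj : j < 8) (h4 : j ≠ 4) : g j * (ρ * g j * ρ⁻¹) * (ρ⁻¹ * g j * ρ) = 1 :=
  s.l'.p.can _ (s.l'.q.g_mem hj) (g_g0 s h0 hj h4)

theorem x_g {i j : ℕ} (h1 : 5 ≤ i) (hi : i < 8) (h2 : 5 ≤ j) (hj : j < 8) :
    ρ * g j * ρ⁻¹ * g i = g i * (ρ * g j * ρ⁻¹) := by
  have h3 := (s.l'.p.rp_R hj (by omega) (by omega)).2.2 i hi
  rw [show img (cR j) i = 2 ^ i by interval_cases i <;> interval_cases j <;> decide +kernel, s.l'.q.qv_gen hi] at h3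
  exact mul_inv_eq_iff_eq_mul.1 h3

theorem card_E : Nat.card (genLt (eg g ρ) 6) ≤ 64 := by
  refine card_genLt_le (fun i hi => ?_) fun i hi j hj => ?_
  · unfold eg
    split_ifs
    · exact s.l'.q.sq _ (by omega)
    · calc _ = ρ * (g (i + 2) * g (i + 2)) * ρ⁻¹ := by group
        _ = 1 := by rw [s.l'.q.sq _ (by omega)]; group
  · unfold eg
    split_ifs
    · exact g_comm s (by omega) (by omega) (by omega) (by omega)
    · exact (x_g s (by omega) (by omega) (by omega) (by omega)).symm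
    · exact x_g s (by omega) (by omega) (by omega) (by omega)
    · calc _ = ρ * (g (i + 2) * g (j + 2)) * ρ⁻¹ := by group
        _ = ρ * (g (j + 2) * g (i + 2)) * ρ⁻¹ := by rw [g_comm s (by omega) (by omega) (by omega) (by omega)]
        _ = _ := by group

omit s [Finite G] in
theorem g_mem_E {j : ℕ} (h1 : 5 ≤ j) (hj : j < 8) : g j ∈ genLt (eg g ρ) 6 := by
  have h := mem_genLt (eg g ρ) (show j - 5 < 6 by omega)
  rwa [eg, if_pos (by omega), show j - 5 + 5 = j by omega] at h

omit s [Finite G] in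
theorem x_mem_E {j : ℕ} (h1 : 5 ≤ j) (hj : j < 8) : ρ * g j * ρ⁻¹ ∈ genLt (eg g ρ) 6 := by
  have h := mem_genLt (eg g ρ) (show j - 2 < 6 by omega)
  rwa [eg, if_neg (by omega), show j - 2 + 2 = j by omega] at h

omit s [Finite G] in
theorem qv_mem_of {K : Subgroup G} (hK : ∀ j, 5 ≤ j → j < 8 → g j ∈ K) {x : ℕ} (hx : x &&& 287 = 0) :
    qv z g x ∈ K := by
  have h1 : ∀ i, Nat.testBit 287 i = true → x.testBit i = false := fun i hi => by
    have := congrArg (fun y => Nat.testBit y i) hx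
    simpa only [Nat.testBit_and, Nat.zero_testBit, hi, Bool.and_true] using this
  rw [qv, h1 8 rfl]
  refine K.mul_mem K.one_mem (gp_mem' fun i hi h2 => hK i ?_ hi)
  by_contra h3
  rw [h1 i (by have : i < 5 := by omega
               interval_cases i <;> rfl)] at h2
  exact absurd h2 (by simp)

theorem norm_l {i : ℕ} (hi : i < 3) : l i ∈ normalizer (genLt (eg g ρ) 6 : Set G) := by
  have h1 : ∀ j, 5 ≤ j → j < 8 → img (cL i) j &&& 287 = 0 := fun j h1 h2 => by
    interval_cases i <;> interval_cases j <;> decide +kernel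
  have h2 := (s.l'.rp i (by omega)).2.2
  refine mem_norm (genLt_le fun k hk => mem_cj ?_)
  unfold eg
  split_ifs
  · rw [h2 _ (by omega)]
    exact qv_mem_of (fun j => g_mem_E) (h1 _ (by omega) (by omega))
  · have h3 : l i * (ρ * g (k + 2) * ρ⁻¹) * (l i)⁻¹ = ρ * (l i * g (k + 2) * (l i)⁻¹) * ρ⁻¹ := by
      calc _ = l i * ρ * g (k + 2) * (l i * ρ)⁻¹ := by group
        _ = _ := by rw [s.l'.cm i (by omega)]; group
    rw [h3, h2 _ (by omega)]
    exact qv_mem_of (K := (genLt (eg g ρ) 6).comap (MulAut.conj ρ).toMonoidHom)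
      (fun j h4 h5 => mem_cj (x_mem_E h4 h5)) (h1 _ (by omega) (by omega))

theorem g4_inv : (g 4)⁻¹ = g 4 := inv_eq_of_mul_eq_one_right (s.l'.q.sq 4 (by norm_num))

theorem norm_f : g 4 ∈ normalizer (genLt (eg g ρ) 6 : Set G) := by
  refine mem_norm (genLt_le fun k hk => mem_cj ?_)
  unfold eg
  split_ifs
  · rw [g_comm s (by omega) (by omega) (by omega) (by omega), mul_inv_cancel_right]
    exact g_mem_E (by omega) (by omega)
  · have h1 : g 4 * (ρ * g (k + 2) * ρ⁻¹) * (g 4)⁻¹ = ρ⁻¹ * g (k + 2) * ρ := by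
      calc _ = g 4 * ρ * (g 4)⁻¹ * (g 4 * g (k + 2) * (g 4)⁻¹) * (g 4 * ρ * (g 4)⁻¹)⁻¹ := by group
        _ = _ := by
          rw [g_comm s (i := 4) (j := k + 2) (by omega) (by omega) (by omega) (by omega), mul_inv_cancel_right,
            g4_inv s, s.l'.p.rf, inv_inv]
    rw [h1, eq_inv_of_mul_eq_one_right (can s (j := k + 2) (by omega) (by omega) (by omega))]
    exact inv_mem (mul_mem (g_mem_E (by omega) (by omega)) (x_mem_E (by omega) (by omega)))

theorem l_f {w : List ℕ} (hw : lettersLt 7 w = true) : evalW l w * g 4 = g 4 * evalW l w :=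
  s.l'.p.kf _ (s.l'.word_cm hw) (s.l'.word_rp hw).1

/-- A complement to `V` in a Sylow 2-subgroup. -/
theorem exists_compl : ∃ C : Subgroup (Gam (vv z g ρ l)), Nat.card C ≤ 1024 ∧
    1024 ≤ Nat.card (C.map (sg (vv z g ρ l))) := by
  have ha := s.l'.word_eq (w := [0] ++ [0]) (w' := []) (by decide +kernel)
  have hw := s.l'.word_eq (w := [2, 1, 0] ++ [2, 1, 0]) (w' := []) (by decide +kernel)
  have haw := s.l'.word_eq (w := [0] ++ [2, 1, 0] ++ ([0] ++ [2, 1, 0]) ++ ([0] ++ [2, 1, 0] ++ ([0] ++ [2, 1, 0])))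
    (w' := []) (by decide +kernel)
  simp only [evalW_append, evalW_nil] at ha hw haw
  have h16 := card_le_sixteen ha hw (s.l'.q.sq 4 (by norm_num))
    (by rw [← l_f s (by decide +kernel), mul_inv_cancel_right])
    (by rw [← l_f s (by decide +kernel), mul_inv_cancel_right]) haw
  have na : evalW l [0] ∈ normalizer (genLt (eg g ρ) 6 : Set G) := by
    simpa using norm_l s (i := 0) (by norm_num)
  have nw : evalW l [2, 1, 0] ∈ normalizer (genLt (eg g ρ) 6 : Set G) := by
    simpa using mul_mem (norm_l s (i := 2) (by norm_num))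
      (mul_mem (norm_l s (i := 1) (by norm_num)) (norm_l s (i := 0) (by norm_num)))
  have hl : ∀ i < 3, Lf (vv z g ρ l) (l i) (nP (i + 5)) := fun i hi => by
    have h := lf_nl s (i := i + 5) (by omega)
    rwa [nl, if_neg (by omega), if_neg (by omega), Nat.add_sub_cancel] at h
  have hg : ∀ i, 4 ≤ i → i < 8 → Lf (vv z g ρ l) (g i) (nP (i - 3)) := fun i h1 hi => by
    have h := lf_nl s (i := i - 3) (by omega)
    rwa [nl, if_neg (by omega), if_pos (by omega), show i - 3 + 3 = i by omega] at h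
  have hr : Lf (vv z g ρ l) ρ (nP 0) := lf_nl s (i := 0) (by norm_num)
  have la := Lf.word hl (w := [0]) (by decide +kernel)
  have lw := Lf.word hl (w := [2, 1, 0]) (by decide +kernel)
  generalize evalW l [0] = a at *
  generalize evalW l [2, 1, 0] = w at *
  have hc := card_sup_le (sup_le (zpowers_le.2 (norm_f s))
    (sup_le (zpowers_le.2 na) (zpowers_le.2 (mul_mem na nw)))) h16 (card_E s)
  set T := zpowers (g 4) ⊔ (zpowers a ⊔ zpowers (a * w)) ⊔ genLt (eg g ρ) 6 with hT
  refine ⟨T.comap (pr _), (Nat.card_le_card_of_injective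
    (fun p : T.comap (pr (vv z g ρ l)) => (⟨pr (vv z g ρ l) p.1, p.2⟩ : T))
    fun p q e => Subtype.ext (pr_inj s (congrArg Subtype.val e))).trans hc, ?_⟩
  have key : ∀ {h c c'}, h ∈ T → Lf (vv z g ρ l) h c → c = c' →
      ∃ x ∈ (T.comap (pr (vv z g ρ l))).map (sg (vv z g ρ l)), code x = c' := by
    rintro h c _ hh hc rfl
    obtain ⟨p, rfl, rfl⟩ := hc.exists_gam
    exact ⟨_, mem_map_of_mem _ hh, rfl⟩
  have ma : a ∈ T := mem_sup_left (mem_sup_right (mem_sup_left (mem_zpowers a)))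
  have mw : w ∈ T := by
    have : a * w ∈ T := mem_sup_left (mem_sup_right (mem_sup_right (mem_zpowers _)))
    simpa using T.mul_mem (T.inv_mem ma) this
  have mg : ∀ j, 5 ≤ j → j < 8 → g j ∈ T := fun j h1 h2 => mem_sup_right (g_mem_E h1 h2)
  have mx : ∀ j, 5 ≤ j → j < 8 → ρ * g j * ρ⁻¹ ∈ T := fun j h1 h2 => mem_sup_right (x_mem_E h1 h2)
  have lx : ∀ j, 4 ≤ j → j < 8 → Lf (vv z g ρ l) (ρ * g j * ρ⁻¹) (mul (mul (nP 0) (nP (j - 3))) (inv (nP 0))) :=
    fun j h1 h2 => (hr.mul (hg j h1 h2)).mul hr.inv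
  refine le_card_of_walk (gs := [nat_lit 0xb99b28523343aaa4b16f258a718820, nat_lit 0xbc0ea332364b892451ebaccad18820,
    nat_lit 0xbb4c93ae2453ac893e8c9d4b018820, nat_lit 0x1dab29d030401aa4b16f39844b962e,
    nat_lit 0xdaaa9b070495b2451eb399c4882e2, nat_lit 0x15aa99add0545a893e8c398642dc01,
    nat_lit 0xba1474922b3398d85676a3cb218820, nat_lit 0x2d6d285033600cf4a16a236e710e2e,
    nat_lit 0x71cc86ac4455e6993d94b54702c401]) ?_ 1024 1023 (nat_lit 0x121312141213121512131214121312161213121412131215121312141213121712131214121312151213121412131216121312141213121512131214121312181213121412131215121312141213121612131214121312151213121412131217121312141213121512131214121312161213121412131215121312141213121912131214121312151213121412131216121312141213121512131214121312171213121412131215121312141213121612131214121312151213121412131218121312141213121512131214121312161213121412131215121312141213121712131214121312151213121412131216121312141213121512131214121312191213121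412131215121312141213121612131214121312151213121412131217121312141213121512131214121312161213121412131215121312141213121812131214121312151213121412131216121312141213121512131214121312171213121412131215121312141213121612131214121312151213121412131219121312141213121512131214121312161213121412131215121312141213121712131214121312151213121412131216121312141213121512131214121312181213121412131215121312141213121612131214121312151213121412131217121312141213121512131214121312161213121412131215121312141213121) (by decide +kernel)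
  intro c hc
  simp only [List.mem_cons, List.not_mem_nil, or_false] at hc
  rcases hc with rfl | rfl | rfl | rfl | rfl | rfl | rfl | rfl | rfl
  · exact key (mg 5 (by norm_num) (by norm_num)) (hg 5 (by norm_num) (by norm_num)) (by decide +kernel)
  · exact key (mg 6 (by norm_num) (by norm_num)) (hg 6 (by norm_num) (by norm_num)) (by decide +kernel)
  · exact key (mg 7 (by norm_num) (by norm_num)) (hg 7 (by norm_num) (by norm_num)) (by decide +kernel)
  · exact key (mx 5 (by norm_num) (by norm_num)) (lx 5 (by norm_num) (by norm_num)) (by decide +kernel)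
  · exact key (mx 6 (by norm_num) (by norm_num)) (lx 6 (by norm_num) (by norm_num)) (by decide +kernel)
  · exact key (mx 7 (by norm_num) (by norm_num)) (lx 7 (by norm_num) (by norm_num)) (by decide +kernel)
  · exact key (mem_sup_left (mem_sup_left (mem_zpowers _))) (hg 4 (by norm_num) (by norm_num)) (by decide +kernel)
  · exact key ma la (by decide +kernel)
  · exact key mw lw (by decide +kernel)

/-- The extension splits. -/
theorem exists_sec : ∃ ψ : M24 →* G, Sec (vv z g ρ l) ψ := by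
  obtain ⟨C, h1, h2⟩ := exists_compl s
  have hr := range_sg s
  have hk := fun p => ker_sg s (p := p)
  have hi := pr_inj s
  have hl := fun p => lf_pr (v := vv z g ρ l) p
  generalize sg (vv z g ρ l) = σ at *
  have hb := (σ.subgroupMap_surjective C).bijective_of_nat_card_le (h1.trans h2)
  have h3 : C ⊓ σ.ker = ⊥ := by
    refine (eq_bot_iff_forall _).2 fun x hx => ?_
    have h4 : σ.subgroupMap C ⟨x, hx.1⟩ = σ.subgroupMap C 1 := Subtype.ext (by simpa using hx.2)
    exact congrArg Subtype.val (hb.1 h4)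
  have h4 : Nat.card (C.map σ) = 1024 := le_antisymm ((Nat.card_eq_of_bijective _ hb).symm.le.trans h1) h2
  have h5 : C.map σ ≤ M24 := hr ▸ map_le_range σ C
  have h6 : (σ.ker ⊔ C).index = 239085 := by
    rw [sup_comm, ← comap_map_eq, index_comap, hr]
    have h7 := ((C.map σ).subgroupOf M24).card_mul_index
    rw [Nat.card_congr (subgroupOfEquivOfLe h5).toEquiv, h4, Golay.card_M24] at h7
    unfold relIndex
    omega
  have := Nat.fact_prime_two
  obtain ⟨n, h8⟩ : ∃ n, Nat.card σ.ker = 2 ^ n := IsPGroup.iff_card.1 fun a => ⟨1, Subtype.ext (hi (by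
    obtain ⟨x, -, e⟩ := hk _ a.2
    rw [pow_one, sq, Subgroup.coe_mul, map_mul, e, vv_sq s, Subgroup.coe_one, map_one]))⟩
  have : IsMulCommutative σ.ker := ⟨⟨fun a b => Subtype.ext (hi (by
    obtain ⟨x, -, e1⟩ := hk _ a.2
    obtain ⟨y, -, e2⟩ := hk _ b.2
    rw [Subgroup.coe_mul, Subgroup.coe_mul, map_mul, map_mul, e1, e2, vv_comm s]))⟩⟩
  obtain ⟨H, hH⟩ := GT.gaschutz_exists σ.ker (σ.ker ⊔ C)
    (by rw [h8, h6]; exact Nat.Coprime.pow_left _ (by norm_num)) C h3 rfl
  let φ : H →* M24 := (σ.comp H.subtype).codRestrict M24 fun x => hr ▸ ⟨x, rfl⟩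
  have hφ : Function.Bijective φ := by
    refine ⟨(injective_iff_map_eq_one φ).2 fun x hx => ?_, fun y => ?_⟩
    · have h9 : (x : Gam (vv z g ρ l)) ∈ σ.ker ⊓ H := ⟨congrArg Subtype.val hx, x.2⟩
      rw [hH.disjoint.eq_bot] at h9
      exact Subtype.ext h9
    · obtain ⟨n, hn⟩ : (y : PG) ∈ σ.range := by rw [hr]; exact y.2
      obtain ⟨⟨k, x⟩, rfl⟩ := hH.2 n
      refine ⟨x, Subtype.ext ?_⟩
      change σ x = y
      rw [← hn, map_mul, show σ k = 1 from k.2, one_mul]
  refine ⟨(pr _).comp (H.subtype.comp (MulEquiv.ofBijective φ hφ).symm.toMonoidHom), fun x => ?_⟩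
  have h9 := hl ((MulEquiv.ofBijective φ hφ).symm x : H)
  rwa [show σ ((MulEquiv.ofBijective φ hφ).symm x : H) = x from
    congrArg Subtype.val ((MulEquiv.ofBijective φ hφ).apply_symm_apply x)] at h9

end Cfsg.Agent.C1T.Split
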