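import Mathlib
import Cfsg.Agent.C1T.VC
import Cfsg.Agent.Spor.LeechBasic

/-!
Subcodes of the Golay code all of whose words are dodecads.
-/

set_option autoImplicit false
set_option maxRecDepth 100000

namespace Cfsg.Agent.C1T

open Cfsg.Agent.Spor Cfsg.Agent.Spor.MB Cfsg.Agent.Spor.J4C Subgroup
open scoped Pointwise

variable {G : Type*} [Group G]

namespace Pu

/-- The `V`-code of a set. -/
def ph (c : Finset GolayPt) : ℕ := lam (mask c)

theorem ph_symmDiff (c d : Finset GolayPt) : ph (symmDiff c d) = ph c ^^^ ph d := by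
  rw [ph, mask_symmDiff, Nat.xor_eq, lam_xor]; rfl

theorem ph_D0 : ph D0 = 1228 := by rw [ph, mask_unmask (by norm_num)]; decide +kernel

theorem ph_empty : ph ∅ = 0 := by rw [ph, mask_empty]; decide +kernel

theorem ph_univ : ph Finset.univ = 0 := by rw [ph, mask_univ, lam_full]

theorem mem_iff {c : Finset GolayPt} (hc : c ∈ CW) : c ∈ dodecads ↔ pc (rep (ph c)) = 12 := by
  rw [mem_dodecads, and_iff_right hc, ← card_unmask, ph]
  rcases unmask_rep_lam hc with e | e <;> rw [e]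
  have := Finset.card_le_univ c
  rw [Finset.card_compl]
  rw [card_golayPt] at this ⊢
  omega

/-- The codes `x` such that `x` and its sum with the standard dodecad are dodecads. -/
def tb (x : ℕ) : Bool :=
  Nat.beq (Nat.land (Nat.shiftRight (nat_lit 0x2080a837a5bb807748bb1978890846bb8478084820308a3045b4647b5a78a24de211d19eda5d12ac009ce56008102a941221202051d21ce12ed082e5ade08e2c1d1c40215e2dada0212000ad621e2e25c9e421d8d022e2ea0620192810eadad4347847b048b00004b7347b848378b8b08488b748078b8b88b08b74847b00000b54074647a5b42a8748b480830283a80b847791b0988b648802038a0b5a7708bde21e280eda52e8022142021d150ec12900c65ec18009a2012ed91d15adea21d260a2910e018dadae9c5d12420d8e2e22120a000126d2e2e1d1c204c2e51adad80b8847b0b740000848047b887088b8b37b48b747384b8b87434b748b8400000) x) 1) 1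

theorem tb_iff {x : ℕ} (hx : x < 2048) :
    (tb x = true ↔ pc (rep x) = 12 ∧ pc (rep (x ^^^ 1228)) = 12) ∧ (x < 1024 ∨ x ^^^ 1228 < 1024) := by
  have h := allRange_zero (len := 2048) (f := fun x => band (Spor.force (rep x) fun a => Spor.force (rep (x ^^^ 1228))
    fun b => decide (tb x = band (Nat.beq (pc a) 12) (Nat.beq (pc b) 12))) (bor (blt x 1024) (blt (x ^^^ 1228) 1024)))
    (by decide +kernel) x hx
  simp only [feq, band_iff, bor_iff, blt_iff, decide_eq_true_eq] at h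
  exact ⟨by rw [h.1, band_iff, nbeq_iff, nbeq_iff], h.2⟩

/-- `x` is zero or its sum with `o` is of the kind above. -/
noncomputable def ok (o x : ℕ) : Bool := bor (Nat.beq x 0) (tb (Nat.xor o x))

/-- Codes of octads. -/
def L : List ℕ := [1, 4, 5, 9, 12, 1032, 13, 1025, 1033, 1028, 1036, 8, 1029, 1037, 144, 181, 211, 215, 736, 740,
  705, 709, 1491, 1989, 1240, 1241, 410, 412, 712, 744, 932, 716, 1237, 946, 1835, 471]

theorem L_ok {o : ℕ} (ho : o ∈ L) : pc (rep (o ^^^ 1228)) = 12 ∧ ∃ c ∈ octads, ph c = o := by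
  have h := MB.allL_iff.1 (show MB.allL (fun o => band (Nat.beq (pc (rep (o ^^^ 1228))) 12) (MB.anyL (fun m =>
    band (band (isCode m) (Nat.beq (pc m) 8)) (band (blt m 16777216) (Nat.beq (lam m) o)))
    [rep o, rep o ^^^ 16777215])) L = true by decide +kernel) o ho
  rw [band_iff, nbeq_iff, MB.anyL_iff] at h
  obtain ⟨h1, m, -, h2⟩ := h
  simp only [band_iff, nbeq_iff, blt_iff] at h2
  exact ⟨h1, _, unmask_mem_octads h2.1.1 h2.1.2, by rw [ph, mask_unmask h2.2.1, h2.2.2]⟩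

theorem cover {a b : ℕ} (ha : a < 1024) (hb : b < 1024) (h1 : ok 0 a = true) (h2 : ok 0 b = true)
    (h3 : ok 0 (a ^^^ b) = true) : ∃ o ∈ L, ok o a = true ∧ ok o b = true ∧ ok o (a ^^^ b) = true := by
  have h := allRange_zero (len := 1024) (f := fun a => Spor.force a fun a => Bool.rec true (allRange 0 1024 fun b =>
    Spor.force b fun b => Bool.rec true (Spor.force (Nat.xor a b) fun c => Bool.rec true
      (MB.anyL (fun o => band (ok o a) (band (ok o b) (ok o c))) L) (ok 0 c)) (ok 0 b)) (ok 0 a))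
    (by decide +kernel) a ha
  rw [feq, h1] at h
  have h4 := allRange_zero h b hb
  rw [feq, h2] at h4
  change Spor.force _ _ = true at h4
  rw [feq, Nat.xor_eq, h3] at h4
  simpa only [band_iff] using MB.anyL_iff.1 h4

/-- The sign attached to a set. -/
def ch (c : Finset GolayPt) (p : GolayPt) : ℤ := if p ∈ c then -1 else 1

theorem ch_symmDiff (c d : Finset GolayPt) (p : GolayPt) : ch (symmDiff c d) p = ch c p * ch d p := by
  by_cases h1 : p ∈ c <;> by_cases h2 : p ∈ d <;> simp [ch, Finset.mem_symmDiff, h1, h2]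

theorem sum_ch {c : Finset GolayPt} (h : c ∈ dodecads) : ∑ p, ch c p = 0 := by
  simp only [ch]
  rw [Leech.sum_ite_pt, h.2]; rfl

theorem not_four {a b e d : Finset GolayPt} (hd : d ∈ dodecads)
    (h : ∀ u ∈ [a, b, symmDiff a b, e, symmDiff e a, symmDiff e b, symmDiff e (symmDiff a b)],
      u ∈ dodecads ∧ symmDiff u d ∈ dodecads) : False := by
  have h1 : ∀ u ∈ [a, b, symmDiff a b, e, symmDiff e a, symmDiff e b, symmDiff e (symmDiff a b)],
      ∑ p, (ch u p + ch (symmDiff u d) p) = 0 := fun u hu => by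
    rw [Finset.sum_add_distrib, sum_ch (h u hu).1, sum_ch (h u hu).2, add_zero]
  simp only [List.forall_mem_cons, ch_symmDiff] at h1
  obtain ⟨a1, a2, a3, a4, a5, a6, a7, -⟩ := h1
  have h2 : (16 : ℤ) ∣ ∑ p, (1 + ch a p) * (1 + ch b p) * (1 + ch e p) * (1 + ch d p) :=
    Finset.dvd_sum fun p _ => by simp only [ch]; split_ifs <;> norm_num
  have h3 : ∑ p : GolayPt, (1 + ch d p) = 24 := by
    rw [Finset.sum_add_distrib, sum_ch hd, Finset.sum_const, Leech.card_univ_pt]; rfl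
  have h4 : ∑ p, (1 + ch a p) * (1 + ch b p) * (1 + ch e p) * (1 + ch d p) = 24 := by
    have := congrArg₂ (· + ·) (congrArg₂ (· + ·) (congrArg₂ (· + ·) h3 a1) (congrArg₂ (· + ·) a2 a3))
      (congrArg₂ (· + ·) (congrArg₂ (· + ·) a4 a5) (congrArg₂ (· + ·) a6 a7))
    simp only [← Finset.sum_add_distrib, add_zero] at this
    rw [← this]
    exact Finset.sum_congr rfl fun p _ => by ring
  rw [h4] at h2
  norm_num at h2

end Pu

open Pu in
theorem exists_octad_of_pure {I : Set (Finset GolayPt)} (h0 : D0 ∈ I) (h1 : ∀ c ∈ I, ∀ d ∈ I, symmDiff c d ∈ I)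
    (h2 : ∀ c ∈ I, c = ∅ ∨ c = Finset.univ ∨ c ∈ dodecads) :
    ∃ o ∈ octads, ∀ c ∈ I, c ∈ dodecads → symmDiff o c ∈ dodecads := by
  have hx : ∀ {a b : ℕ}, a < 1024 → b < 1024 → a ^^^ b < 1024 := fun ha hb => Nat.xor_lt_two_pow (n := 10) ha hb
  have h3 : ∀ c ∈ I, ph c ≠ 0 → c ∈ dodecads := fun c hc h => by
    rcases h2 c hc with rfl | rfl | e
    exacts [absurd ph_empty h, absurd ph_univ h, e]
  have h4 : ∀ c ∈ I, ph c < 1024 → ph c ≠ 0 → c ∈ dodecads ∧ symmDiff c D0 ∈ dodecads := fun c hc h h' =>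
    ⟨h3 c hc h', h3 _ (h1 c hc _ h0) (by rw [ph_symmDiff, ph_D0, Ne, Nat.xor_eq_zero_iff]; omega)⟩
  have h5 : ∀ c ∈ I, ph c < 1024 → ok 0 (ph c) = true := fun c hc h => by
    rw [ok, bor_iff, nbeq_iff, or_iff_not_imp_left, Nat.xor_eq, Nat.zero_xor, (tb_iff (by omega)).1]
    intro h'
    obtain ⟨a1, a2⟩ := h4 c hc h h'
    exact ⟨(mem_iff (mem_dodecads.1 a1).1).1 a1, by
      rw [← ph_D0, ← ph_symmDiff]; exact (mem_iff (mem_dodecads.1 a2).1).1 a2⟩
  obtain ⟨a, ha, b, hb, a1, b1, h6⟩ : ∃ a ∈ I, ∃ b ∈ I, ph a < 1024 ∧ ph b < 1024 ∧ ∀ c ∈ I, ph c < 1024 →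
      ph c = 0 ∨ ph c = ph a ∨ ph c = ph b ∨ ph c = ph a ^^^ ph b := by
    by_contra h
    push Not at h
    have e0 : (∅ : Finset GolayPt) ∈ I := by simpa using h1 _ h0 _ h0
    have e1 : ph ∅ < 1024 := by rw [ph_empty]; norm_num
    obtain ⟨a, ha, a1, a2, -⟩ := h _ e0 _ e0 e1 e1
    obtain ⟨b, hb, b1, b2, b3, -⟩ := h _ ha _ e0 a1 e1
    obtain ⟨c, hc, c1, c2, c3, c4, c5⟩ := h _ ha _ hb a1 b1
    refine not_four (a := a) (b := b) (e := c) D0_mem ?_
    simp only [List.forall_mem_cons]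
    refine ⟨h4 _ ha a1 a2, h4 _ hb b1 b2, h4 _ (h1 _ ha _ hb) ?_ ?_, h4 _ hc c1 c2, h4 _ (h1 _ hc _ ha) ?_ ?_,
      h4 _ (h1 _ hc _ hb) ?_ ?_, h4 _ (h1 _ hc _ (h1 _ ha _ hb)) ?_ ?_, by simp⟩ <;>
      simp only [ph_symmDiff, Ne, Nat.xor_eq_zero_iff]
    exacts [hx a1 b1, b3.symm, hx c1 a1, c3, hx c1 b1, c4, hx c1 (hx a1 b1), c5]
  obtain ⟨o, ho, o1, o2, o3⟩ := cover a1 b1 (h5 a ha a1) (h5 b hb b1)
    (by rw [← ph_symmDiff]; exact h5 _ (h1 _ ha _ hb) (by rw [ph_symmDiff]; exact hx a1 b1))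
  obtain ⟨o4, O, hO, rfl⟩ := L_ok ho
  have h7 : ∀ c ∈ I, ph c < 1024 → ph c ≠ 0 →
      pc (rep (ph O ^^^ ph c)) = 12 ∧ pc (rep (ph O ^^^ ph c ^^^ 1228)) = 12 := fun c hc h h' => by
    have e : ok (ph O) (ph c) = true := by
      rcases h6 c hc h with e | e | e | e
      · exact absurd e h'
      all_goals rwa [e]
    rw [ok, bor_iff, nbeq_iff, Nat.xor_eq] at e
    exact (tb_iff (xor_lt (lam_lt _) (lam_lt _))).1.1 (e.resolve_left h')
  refine ⟨O, hO, fun c hc hd => ?_⟩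
  rw [mem_iff (symmDiff_mem_CW (mem_octads.1 hO).1 (mem_dodecads.1 hd).1), ph_symmDiff]
  rcases (tb_iff (x := ph c) (lam_lt _)).2 with e | e
  · refine (h7 c hc e fun e0 => ?_).1
    have := (mem_iff (mem_dodecads.1 hd).1).1 hd
    rw [e0] at this
    exact absurd this (by decide +kernel)
  · by_cases e0 : ph c ^^^ 1228 = 0
    · rwa [Nat.xor_eq_zero_iff.1 e0]
    · have := (h7 _ (h1 _ hc _ h0) (by rwa [ph_symmDiff, ph_D0]) (by rwa [ph_symmDiff, ph_D0])).2
      rwa [ph_symmDiff, ph_D0, Nat.xor_assoc, Nat.xor_xor_cancel_right] at this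

end Cfsg.Agent.C1T
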